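import Cfsg.Agent.Lib.Classical.PThree.Sub.Dickson
import Cfsg.Agent.Lib.Classical.Irreducible

/-!
# Reducible subgroups of `GL₃` without solvable normal subgroups modulo scalars

Such a group acts faithfully, modulo scalars, on the quotient by an invariant line (or on the dual).
-/

set_option autoImplicit false
set_option linter.unusedSectionVars false
set_option linter.style.haveILetI false

namespace Cfsg.Agent.PThree.Sub

open Matrix Cfsg Cfsg.Geo
open scoped MatrixGroups

variable {F : Type*} [Field F] {H : Type*} [Group H]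

local notation "GL3" => GL (Fin 3) F

theorem scalars_le_center : scalars (Fin 3) F ≤ Subgroup.center GL3 := fun x hx => by
  obtain ⟨c, hc⟩ := (mem_scalars_iff x).1 hx
  exact Subgroup.mem_center_iff.2 fun y => Units.ext (by simp [hc])

/-- Transport along an automorphism of `GL₃` preserving the scalars. -/
theorem Sit.map {G : Subgroup GL3} {π : G →* H} (S : Sit H G π) (φ : GL3 ≃* GL3)
    (hφ : ∀ g, φ g ∈ scalars (Fin 3) F ↔ g ∈ scalars (Fin 3) F) :
    Sit H (G.map φ.toMonoidHom) (π.comp (φ.subgroupMap G).symm.toMonoidHom) where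
  scal := fun x hx => ⟨φ.symm x, S.scal ((hφ _).1 (by rwa [φ.apply_symm_apply])), φ.apply_symm_apply x⟩
  surj := S.surj.comp (φ.subgroupMap G).symm.surjective
  ker := fun x => by
    obtain ⟨y, rfl⟩ := (φ.subgroupMap G).surjective x
    show π ((φ.subgroupMap G).symm (φ.subgroupMap G y)) = 1 ↔ _
    rw [MulEquiv.symm_apply_apply, S.ker y]
    exact (hφ y).symm

theorem conj_mem_scalars (B g : GL3) : MulAut.conj B g ∈ scalars (Fin 3) F ↔ g ∈ scalars (Fin 3) F := by
  constructor
  · intro h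
    have hc := Subgroup.mem_center_iff.1 (scalars_le_center h) B
    have e : g = MulAut.conj B g := by
      rw [MulAut.conj_apply] at hc ⊢
      calc g = B⁻¹ * (B * g * B⁻¹ * B) := by group
        _ = B⁻¹ * (B * (B * g * B⁻¹)) := by rw [hc]
        _ = B * g * B⁻¹ := by group
    rw [e]; exact h
  · intro h
    rwa [MulAut.conj_apply, Subgroup.mem_center_iff.1 (scalars_le_center h) B, mul_inv_cancel_right]

variable [Fintype F] [Finite H] [Nontrivial H]

/-- The block upper triangular case. -/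
theorem target_of_block {p α : ℕ} (hp : p.Prime) (hodd : p ≠ 2) (hF : Fintype.card F = p ^ α) (hH : NoRad H)
    {G : Subgroup GL3} {π : G →* H} (S : Sit H G π)
    (h1 : ∀ g : G, ((g : GL3) : Matrix (Fin 3) (Fin 3) F) 1 0 = 0)
    (h2 : ∀ g : G, ((g : GL3) : Matrix (Fin 3) (Fin 3) F) 2 0 = 0) : Target p α H := by
  classical
  let A : G →* Matrix (Fin 2) (Fin 2) F :=
    { toFun := fun g => Matrix.of fun i j => ((g : GL3) : Matrix (Fin 3) (Fin 3) F) i.succ j.succ
      map_one' := by ext i j; fin_cases i <;> fin_cases j <;> simp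
      map_mul' := fun g h => by
        ext i j
        simp only [Subgroup.coe_mul, Units.val_mul, Matrix.mul_apply, Matrix.of_apply, Fin.sum_univ_three,
          Fin.sum_univ_two]
        fin_cases i <;> fin_cases j <;> simp [h1, h2] }
  let ψ : G →* Matrix.ProjGenLinGroup (Fin 2) F := Matrix.ProjGenLinGroup.mk.comp A.toHomUnits
  have hψ : ∀ g : G, ψ g = 1 ↔ ∃ μ : F, A g = μ • (1 : Matrix (Fin 2) (Fin 2) F) := by
    intro g
    show (QuotientGroup.mk (A.toHomUnits g) : GL (Fin 2) F ⧸ Subgroup.center (GL (Fin 2) F)) = 1 ↔ _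
    rw [QuotientGroup.eq_one_iff, Matrix.GeneralLinearGroup.center_eq_range_scalar]
    constructor
    · rintro ⟨u, hu⟩
      refine ⟨u, ?_⟩
      have e := congrArg (fun z : GL (Fin 2) F => (z : Matrix (Fin 2) (Fin 2) F)) hu
      rw [show A g = (A.toHomUnits g : Matrix (Fin 2) (Fin 2) F) from rfl, ← e]
      simp [Matrix.smul_one_eq_diagonal]
    · rintro ⟨μ, hμ⟩
      have hμ0 : μ ≠ 0 := fun h => (A.toHomUnits g).ne_zero (by
        show A g = 0
        rw [hμ, h, zero_smul])
      refine ⟨Units.mk0 μ hμ0, Units.ext ?_⟩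
      show _ = A g
      rw [hμ]
      simp [Matrix.smul_one_eq_diagonal]
  -- the kernel is solvable
  let θ : ψ.ker →* F × F :=
    { toFun := fun g => (((g : G) : GL3).1 0 0, ((g : G) : GL3).1 1 1)
      map_one' := by simp
      map_mul' := fun g h => by
        obtain ⟨μ, hμ⟩ := (hψ g).1 g.2
        have e12 : ((g : G) : GL3).1 1 2 = 0 := by simpa [A] using congrFun (congrFun hμ 0) 1
        refine Prod.ext ?_ ?_
        · simp [Matrix.mul_apply, Fin.sum_univ_three, h1, h2]
        · simp [Matrix.mul_apply, Fin.sum_univ_three, h1, e12] }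
  have hkerθ : ∀ a b : θ.ker, a * b = b * a := by
    intro a b
    have key : ∀ x : θ.ker, ((((x : ψ.ker) : G) : GL3).1) =
        !![1, ((((x : ψ.ker) : G) : GL3).1) 0 1, ((((x : ψ.ker) : G) : GL3).1) 0 2; 0, 1, 0; 0, 0, 1] := by
      intro x
      obtain ⟨μ, hμ⟩ := (hψ (x : ψ.ker)).1 (x : ψ.ker).2
      have e := MonoidHom.mem_ker.1 x.2
      have e0 : ((((x : ψ.ker) : G) : GL3).1) 0 0 = 1 := congrArg Prod.fst e
      have e1 : ((((x : ψ.ker) : G) : GL3).1) 1 1 = 1 := congrArg Prod.snd e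
      have f00 : ((((x : ψ.ker) : G) : GL3).1) 1 1 = μ := by simpa [A] using congrFun (congrFun hμ 0) 0
      have f11 : ((((x : ψ.ker) : G) : GL3).1) 2 2 = μ := by simpa [A] using congrFun (congrFun hμ 1) 1
      have f01 : ((((x : ψ.ker) : G) : GL3).1) 1 2 = 0 := by simpa [A] using congrFun (congrFun hμ 0) 1
      have f10 : ((((x : ψ.ker) : G) : GL3).1) 2 1 = 0 := by simpa [A] using congrFun (congrFun hμ 1) 0
      ext i j
      fin_cases i <;> fin_cases j <;> simp [e0, e1, h1, h2, f01, f10]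
      rw [f11, ← f00, e1]
    apply Subtype.ext; apply Subtype.ext; apply Subtype.ext; apply Units.ext
    show ((((a : ψ.ker) : G) : GL3).1) * ((((b : ψ.ker) : G) : GL3).1) =
      ((((b : ψ.ker) : G) : GL3).1) * ((((a : ψ.ker) : G) : GL3).1)
    rw [key a, key b]
    ext i j
    fin_cases i <;> fin_cases j <;> simp [Matrix.mul_apply, Fin.sum_univ_three, add_comm]
  have hsol : Group.IsSolvable ψ.ker := by
    haveI : Group.IsSolvable θ.toHomUnits.ker := Group.isSolvable_of_comm fun a b => by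
      have h := hkerθ ⟨a, congrArg Units.val (MonoidHom.mem_ker.1 a.2)⟩
        ⟨b, congrArg Units.val (MonoidHom.mem_ker.1 b.2)⟩
      exact Subtype.ext (congrArg (fun z : θ.ker => (z : ψ.ker)) h)
    haveI : Group.IsSolvable (F × F)ˣ := Group.isSolvable_of_comm mul_comm
    exact Group.isSolvable_of_ker_le_range θ.toHomUnits.ker.subtype θ.toHomUnits (by rw [Subgroup.range_subtype])
  have hker : ψ.ker = π.ker := by
    refine le_antisymm (fun x hx => ?_) (fun x hx => ?_)
    · exact MonoidHom.mem_ker.2 ((S.ker x).2 (S.le_scalars hH ψ.ker inferInstance hsol x hx))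
    · obtain ⟨c, hc⟩ := (mem_scalars_iff _).1 ((S.ker x).1 hx)
      refine MonoidHom.mem_ker.2 ((hψ x).2 ⟨c, ?_⟩)
      ext i j
      fin_cases i <;> fin_cases j <;> simp [A, hc]
  refine target_of_pgl hp hodd hF hH (π.liftOfSurjective S.surj ⟨ψ, hker.ge⟩) ?_
  rw [← MonoidHom.ker_eq_bot_iff, eq_bot_iff]
  intro y hy
  obtain ⟨x, rfl⟩ := S.surj y
  have e : (π.liftOfSurjective S.surj ⟨ψ, hker.ge⟩) (π x) = ψ x :=
    MonoidHom.liftOfRightInverse_comp_apply π _ _ _ x
  rw [MonoidHom.mem_ker, e] at hy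
  rw [Subgroup.mem_bot, ← MonoidHom.mem_ker, ← hker]
  exact MonoidHom.mem_ker.2 hy

/-- An invariant line. -/
theorem target_of_line {p α : ℕ} (hp : p.Prime) (hodd : p ≠ 2) (hF : Fintype.card F = p ^ α) (hH : NoRad H)
    {G : Subgroup GL3} {π : G →* H} (S : Sit H G π) {v : Fin 3 → F} (hv : v ≠ 0)
    (hfix : ∀ g ∈ G, ∃ c : F, (g : Matrix (Fin 3) (Fin 3) F) *ᵥ v = c • v) : Target p α H := by
  classical
  obtain ⟨k, hk⟩ := Function.ne_iff.1 hv
  let M : Matrix (Fin 3) (Fin 3) F :=
    (((1 : Matrix (Fin 3) (Fin 3) F).updateCol k v)).submatrix id (Equiv.swap 0 k)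
  have hdet : M.det ≠ 0 := by
    rw [show M.det = _ from Matrix.det_permute' _ _]
    refine mul_ne_zero ?_ ?_
    · rcases Int.units_eq_one_or (Equiv.Perm.sign (Equiv.swap (0 : Fin 3) k)) with e | e <;> simp [e]
    · have hk' : v k ≠ 0 := hk
      have e : ((1 : Matrix (Fin 3) (Fin 3) F).updateCol k v).det = v k := by
        have h := Matrix.cramer_apply (1 : Matrix (Fin 3) (Fin 3) F) v k
        rw [Matrix.cramer_one] at h
        exact h.symm
      rwa [e]
  let B : GL3 := Matrix.GeneralLinearGroup.mkOfDetNeZero M hdet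
  have hB : (B : Matrix (Fin 3) (Fin 3) F) *ᵥ Pi.single 0 1 = v := by
    rw [show (B : Matrix (Fin 3) (Fin 3) F) = M from rfl, Matrix.mulVec_single_one]
    ext i
    simp [M, Matrix.col_apply]
  have hcol : ∀ g ∈ G, ∃ c : F,
      ((MulAut.conj B⁻¹ g : GL3) : Matrix (Fin 3) (Fin 3) F) *ᵥ Pi.single 0 1 = c • Pi.single 0 1 := by
    intro g hg
    obtain ⟨c, hc⟩ := hfix g hg
    refine ⟨c, ?_⟩
    rw [MulAut.conj_apply, inv_inv, Units.val_mul, Units.val_mul, ← Matrix.mulVec_mulVec, hB,
      ← Matrix.mulVec_mulVec, hc, Matrix.mulVec_smul, ← hB, Matrix.mulVec_mulVec, Units.inv_mul, Matrix.one_mulVec]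
  refine target_of_block hp hodd hF hH (S.map (MulAut.conj B⁻¹) (conj_mem_scalars B⁻¹)) ?_ ?_ <;>
  · rintro ⟨_, g, hg, rfl⟩
    obtain ⟨c, hc⟩ := hcol g hg
    rw [Matrix.mulVec_single_one] at hc
    first
      | (have e := congrFun hc 1; simpa [Matrix.col_apply] using e; done)
      | (have e := congrFun hc 2; simpa [Matrix.col_apply] using e; done)

/-- A reducible group. -/
theorem target_of_reducible {p α : ℕ} (hp : p.Prime) (hodd : p ≠ 2) (hF : Fintype.card F = p ^ α) (hH : NoRad H)
    {G : Subgroup GL3} {π : G →* H} (S : Sit H G π) (hred : ¬ ActsIrreducibly (matrixSet G)) : Target p α H := by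
  classical
  simp only [ActsIrreducibly, not_forall, not_or] at hred
  obtain ⟨W, hW, hW0, hW1⟩ := hred
  have hinv : ∀ g ∈ G, ∀ w ∈ W, (g : Matrix (Fin 3) (Fin 3) F) *ᵥ w ∈ W := fun g hg w hw =>
    Classical.map_toLin'_le.1 (hW _ (Classical.coe_mem_matrixSet hg)) w hw
  have hlt : Module.finrank F W < 3 := by
    have h := Submodule.finrank_lt (s := W) hW1
    rwa [Module.finrank_fintype_fun_eq_card, Fintype.card_fin] at h
  have hpos : 0 < Module.finrank F W := by
    rw [Nat.pos_iff_ne_zero]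
    exact fun h => hW0 (Submodule.finrank_eq_zero.1 h)
  rcases (by omega : Module.finrank F W = 1 ∨ Module.finrank F W = 2) with h1 | h2
  · obtain ⟨v, hv, hspan⟩ := finrank_eq_one_iff'.1 h1
    refine target_of_line hp hodd hF hH S (v := (v : Fin 3 → F)) (fun e => hv (Subtype.ext e)) fun g hg => ?_
    obtain ⟨c, hc⟩ := hspan ⟨_, hinv g hg v v.2⟩
    exact ⟨c, (congrArg Subtype.val hc).symm⟩
  · obtain ⟨f, hf0, hf⟩ := Submodule.exists_le_ker_of_lt_top W (lt_top_iff_ne_top.2 hW1)
    let a : Fin 3 → F := fun i => f (Pi.single i 1)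
    have hfa : ∀ x, f x = a ⬝ᵥ x := by
      intro x
      conv_lhs => rw [pi_eq_sum_univ' x]
      rw [map_sum]
      simp only [map_smul, smul_eq_mul, dotProduct, a]
      exact Finset.sum_congr rfl fun i _ => mul_comm _ _
    have hker : LinearMap.ker f = W := by
      refine (Submodule.eq_of_le_of_finrank_le hf ?_).symm
      have h : Module.finrank F (LinearMap.ker f) < 3 := by
        have := Submodule.finrank_lt (s := LinearMap.ker f) (by rwa [Ne, LinearMap.ker_eq_top])
        rwa [Module.finrank_fintype_fun_eq_card, Fintype.card_fin] at this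
      omega
    obtain ⟨u, hu⟩ : ∃ u, f u ≠ 0 := by
      by_contra hall
      push Not at hall
      exact hf0 (LinearMap.ext hall)
    have ha : a ≠ 0 := fun e => hu (by rw [hfa, e, zero_dotProduct])
    have hkill : ∀ b : Fin 3 → F, (∀ w ∈ W, b ⬝ᵥ w = 0) → b = (b ⬝ᵥ u / f u) • a := by
      intro b hb
      funext i
      have hw : Pi.single i 1 - (a i / f u) • u ∈ W := by
        rw [← hker, LinearMap.mem_ker, map_sub, map_smul, smul_eq_mul, div_mul_cancel₀ _ hu]
        exact sub_self _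
      have h := hb _ hw
      rw [dotProduct_sub, dotProduct_smul, dotProduct_single, mul_one, smul_eq_mul, sub_eq_zero] at h
      rw [h, Pi.smul_apply, smul_eq_mul]
      field_simp
    -- pass to the dual
    let φ : GL3 ≃* GL3 :=
      { toFun := fun g => ⟨((g⁻¹ : GL3) : Matrix (Fin 3) (Fin 3) F)ᵀ, (g : Matrix (Fin 3) (Fin 3) F)ᵀ,
          by rw [← Matrix.transpose_mul, Units.mul_inv, Matrix.transpose_one],
          by rw [← Matrix.transpose_mul, Units.inv_mul, Matrix.transpose_one]⟩
        invFun := fun g => ⟨((g⁻¹ : GL3) : Matrix (Fin 3) (Fin 3) F)ᵀ, (g : Matrix (Fin 3) (Fin 3) F)ᵀ,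
          by rw [← Matrix.transpose_mul, Units.mul_inv, Matrix.transpose_one],
          by rw [← Matrix.transpose_mul, Units.inv_mul, Matrix.transpose_one]⟩
        left_inv := fun g => Units.ext (Matrix.transpose_transpose _)
        right_inv := fun g => Units.ext (Matrix.transpose_transpose _)
        map_mul' := fun g h => Units.ext (by
          show (((g * h)⁻¹ : GL3) : Matrix (Fin 3) (Fin 3) F)ᵀ = _
          rw [_root_.mul_inv_rev, Units.val_mul, Matrix.transpose_mul]
          rfl) }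
    have hφval : ∀ g : GL3, (φ g : Matrix (Fin 3) (Fin 3) F) = ((g⁻¹ : GL3) : Matrix (Fin 3) (Fin 3) F)ᵀ :=
      fun g => rfl
    have hsc : ∀ g ∈ scalars (Fin 3) F, φ g ∈ scalars (Fin 3) F := fun g hg => by
      obtain ⟨c, hc⟩ := (mem_scalars_iff _).1 (inv_mem hg)
      refine (mem_scalars_iff _).2 ⟨c, ?_⟩
      rw [hφval, hc, Matrix.transpose_smul, Matrix.transpose_one]
    refine target_of_line hp hodd hF hH (S.map φ fun g => ⟨fun h => ?_, hsc g⟩) ha ?_
    · have := hsc _ h
      rwa [show φ (φ g) = g from φ.left_inv g] at this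
    · rintro _ ⟨g, hg, rfl⟩
      refine ⟨_, hkill _ fun w hw => ?_⟩
      show (((g⁻¹ : GL3) : Matrix (Fin 3) (Fin 3) F)ᵀ *ᵥ a) ⬝ᵥ w = 0
      rw [Matrix.mulVec_transpose, ← Matrix.dotProduct_mulVec, ← hfa, ← LinearMap.mem_ker, hker]
      exact hinv _ (inv_mem hg) w hw

end Cfsg.Agent.PThree.Sub
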