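import Cfsg.Agent.Lib.Classical.PThree.Sub.Reduce
import Cfsg.Agent.Lib.Classical.PThree.Sub.Reducible

/-!
# The image of the socle
-/

set_option autoImplicit false
set_option linter.unusedSectionVars false
set_option linter.style.haveILetI false

namespace Cfsg.Agent.PThree.Sub

open Matrix Cfsg Cfsg.Geo
open scoped MatrixGroups

variable {K : Type*} [Field K] {H : Type*} [Group H] {G P : Subgroup (GL (Fin 3) K)} {π : G →* H}

/-- The image of the socle is the socle modulo scalars. -/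
theorem image_equiv (S : Sit H G π) (hPG : P ≤ G) :
    Nonempty (↥((P.subgroupOf G).map π) ≃* (P ⧸ (scalars (Fin 3) K).subgroupOf P)) := by
  classical
  let ψ : P →* H := π.comp (Subgroup.inclusion hPG)
  have hker : ψ.ker = (scalars (Fin 3) K).subgroupOf P := by
    ext x
    rw [MonoidHom.mem_ker, Subgroup.mem_subgroupOf]
    exact S.ker _
  have hrange : ψ.range = (P.subgroupOf G).map π := by
    rw [MonoidHom.range_comp, Subgroup.inclusion_range]
  exact ⟨((QuotientGroup.quotientMulEquivOfEq hker.symm).trans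
    ((QuotientGroup.quotientKerEquivRange ψ).trans (MulEquiv.subgroupCongr hrange))).symm⟩

theorem image_mem_iff (S : Sit H G π) (hPG : P ≤ G) (y : G) :
    π y ∈ (P.subgroupOf G).map π ↔ ∃ x ∈ P, x⁻¹ * (y : GL (Fin 3) K) ∈ scalars (Fin 3) K := by
  constructor
  · rintro ⟨x, hx, e⟩
    exact ⟨x, hx, (S.ker (x⁻¹ * y)).1 (by rw [map_mul, map_inv, e, inv_mul_cancel])⟩
  · rintro ⟨x, hx, h⟩
    refine ⟨⟨x, hPG hx⟩, hx, ?_⟩
    have h1 := (S.ker (⟨x, hPG hx⟩⁻¹ * y)).2 h
    rwa [map_mul, map_inv, inv_mul_eq_one] at h1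

/-- A group with no outer part. -/
theorem equiv_of_inner (S : Sit H G π) (hPG : P ≤ G)
    (h : ∀ g ∈ G, ∃ x ∈ P, x⁻¹ * g ∈ scalars (Fin 3) K) :
    Nonempty (H ≃* (P ⧸ (scalars (Fin 3) K).subgroupOf P)) := by
  obtain ⟨e⟩ := image_equiv S hPG
  have htop : (P.subgroupOf G).map π = ⊤ := by
    rw [eq_top_iff]
    intro z _
    obtain ⟨y, rfl⟩ := S.surj z
    exact (image_mem_iff S hPG y).2 (h y y.2)
  exact ⟨((MulEquiv.subgroupCongr htop).trans Subgroup.topEquiv).symm.trans e⟩

end Cfsg.Agent.PThree.Sub
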