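import Mathlib

/-!
# Finite facts about the alternating groups of degree six and seven
-/

set_option autoImplicit false

namespace Cfsg.Agent.PThree.Sub.AltFacts

open Equiv Equiv.Perm

abbrev A6 := ↥(alternatingGroup (Fin 6))

abbrev A7 := ↥(alternatingGroup (Fin 7))

/-- `(0 1 2)`. -/
def u6 : A6 := ⟨swap 0 1 * swap 1 2, mem_alternatingGroup.2 (by decide)⟩

/-- `(3 4 5)`. -/
def v6 : A6 := ⟨swap 3 4 * swap 4 5, mem_alternatingGroup.2 (by decide)⟩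

/-- `(0 1)(3 4)`. -/
def w6 : A6 := ⟨swap 0 1 * swap 3 4, mem_alternatingGroup.2 (by decide)⟩

/-- `(0 1 2 3 4)`. -/
def g6 : A6 := ⟨swap 0 1 * swap 1 2 * swap 2 3 * swap 3 4, mem_alternatingGroup.2 (by decide)⟩

/-- `(0 4)(1 3)`. -/
def r6 : A6 := ⟨swap 0 4 * swap 1 3, mem_alternatingGroup.2 (by decide)⟩

/-- `(0 1 2)`. -/
def u7 : A7 := ⟨swap 0 1 * swap 1 2, mem_alternatingGroup.2 (by decide)⟩

/-- `(3 4 5)`. -/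
def v7 : A7 := ⟨swap 3 4 * swap 4 5, mem_alternatingGroup.2 (by decide)⟩

/-- `(0 1)(3 4)`. -/
def w7 : A7 := ⟨swap 0 1 * swap 3 4, mem_alternatingGroup.2 (by decide)⟩

theorem basic6 : u6 ^ 3 = 1 ∧ v6 ^ 3 = 1 ∧ u6 * v6 = v6 * u6 ∧ w6 * u6 * w6⁻¹ = u6⁻¹ ∧
    w6 * v6 * w6⁻¹ = v6⁻¹ ∧ ∀ i j : Fin 3, u6 ^ (i : ℕ) * v6 ^ (j : ℕ) = 1 → i = 0 ∧ j = 0 := by
  decide +kernel

theorem basic7 : u7 ^ 3 = 1 ∧ v7 ^ 3 = 1 ∧ u7 * v7 = v7 * u7 ∧ w7 * u7 * w7⁻¹ = u7⁻¹ ∧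
    w7 * v7 * w7⁻¹ = v7⁻¹ ∧ ∀ i j : Fin 3, u7 ^ (i : ℕ) * v7 ^ (j : ℕ) = 1 → i = 0 ∧ j = 0 := by
  decide +kernel

theorem three6 : IsThreeCycle (u6 : Perm (Fin 6)) ∧ IsThreeCycle (v6 : Perm (Fin 6)) :=
  ⟨card_support_eq_three_iff.1 (by decide +kernel), card_support_eq_three_iff.1 (by decide +kernel)⟩

theorem three7 : IsThreeCycle (u7 : Perm (Fin 7)) :=
  card_support_eq_three_iff.1 (by decide +kernel)

theorem swap_facts6 : swap 0 1 * (u6 : Perm (Fin 6)) * (swap 0 1)⁻¹ = (u6 : Perm (Fin 6))⁻¹ ∧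
    swap 0 1 * (v6 : Perm (Fin 6)) * (swap 0 1)⁻¹ = (v6 : Perm (Fin 6)) := by
  decide +kernel

theorem swap_facts7 : swap 0 1 * (u7 : Perm (Fin 7)) * (swap 0 1)⁻¹ = (u7 : Perm (Fin 7))⁻¹ ∧
    swap 0 1 * (v7 : Perm (Fin 7)) * (swap 0 1)⁻¹ = (v7 : Perm (Fin 7)) := by
  decide +kernel

theorem five6 : g6 ^ 5 = 1 ∧ g6 ≠ 1 ∧ r6 * g6 * r6⁻¹ = g6⁻¹ ∧ (u6 * g6) ^ 5 = 1 ∧ (v6 * g6) ^ 4 = 1 := by
  decide +kernel

/-- The elements of order three without fixed points are conjugate. -/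
theorem doubles_conj : ∀ f : A6, f ^ 3 = 1 → (∀ i, (f : Perm (Fin 6)) i ≠ i) →
    ∃ x : A6, x * f * x⁻¹ = u6 * v6 := by
  decide +kernel

theorem doubles_commuting : ∀ f : A6, (∀ i, (f : Perm (Fin 6)) i ≠ i) → f ^ 3 = 1 →
    u6 * v6 * f = f * (u6 * v6) →
    f = u6 * v6 ∨ f = (u6 * v6)⁻¹ ∨ f = u6 * v6⁻¹ ∨ f = u6⁻¹ * v6 := by
  decide +kernel

/-- The images of a five-cycle under an automorphism fixing the class of a double cycle. -/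
theorem five_image : ∀ f : A6, f ^ 5 = 1 → (u6 * v6 * f) ^ 5 = 1 → (u6 * v6⁻¹ * f) ^ 4 = 1 →
    ∃ x : A6, x * g6 ^ 2 * x⁻¹ = f := by
  decide +kernel

end Cfsg.Agent.PThree.Sub.AltFacts
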