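import Cfsg.Agent.Lib.Classical.PThree.Sub.Almost
import Cfsg.Agent.Lib.Classical.PThree.Fields

/-!
# A socle of order `168` in characteristic different from seven has no outer part
-/

set_option autoImplicit false
set_option linter.unusedSectionVars false
set_option linter.style.haveILetI false

namespace Cfsg.Agent.PThree.Sub

open Matrix Cfsg Cfsg.Geo
open scoped MatrixGroups

section matrices

variable {K : Type*} [Field K]

local notation "M3" => Matrix (Fin 3) (Fin 3) K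

/-- The second coefficient of the characteristic polynomial. -/
def minorSum (A : M3) : K :=
  A 0 0 * A 1 1 - A 0 1 * A 1 0 + (A 0 0 * A 2 2 - A 0 2 * A 2 0) + (A 1 1 * A 2 2 - A 1 2 * A 2 1)

theorem cayley_three (A : M3) :
    A ^ 3 = A.trace • A ^ 2 - minorSum A • A + A.det • (1 : M3) := by
  ext i j
  fin_cases i <;> fin_cases j <;>
    simp [pow_succ, minorSum, Matrix.trace, Matrix.det_fin_three, Matrix.mul_apply, Fin.sum_univ_three] <;> ring

theorem trace_sq (A : M3) : (A ^ 2).trace = A.trace ^ 2 - 2 * minorSum A := by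
  simp [pow_two, minorSum, Matrix.trace, Matrix.mul_apply, Fin.sum_univ_three]
  ring

theorem det_one_sub (A : M3) : (1 - A).det = 1 - A.trace + minorSum A - A.det := by
  simp [minorSum, Matrix.trace, Matrix.det_fin_three, Fin.sum_univ_three]
  ring

/-- No eigenvalue one for an element of order seven conjugate to its square. -/
theorem det_one_sub_ne_zero (h7 : (7 : K) ≠ 0) {A : M3} (hdet : A.det = 1) (hA : A ^ 7 = 1) (hA1 : A ≠ 1)
    (hsq : (A ^ 2).trace = A.trace) : (1 - A).det ≠ 0 := by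
  intro h0
  rw [det_one_sub, hdet] at h0
  have he : minorSum A = A.trace := by linear_combination h0
  rw [trace_sq, he] at hsq
  have h3 : A.trace * (A.trace - 3) = 0 := by linear_combination hsq
  have hCH := cayley_three A
  rw [he, hdet, one_smul] at hCH
  rcases mul_eq_zero.1 h3 with ht | ht
  · rw [ht, zero_smul, zero_smul, sub_zero, zero_add] at hCH
    refine hA1 ?_
    rw [show (7 : ℕ) = 3 * 2 + 1 from rfl, pow_succ, pow_mul, hCH, one_pow, one_mul] at hA
    exact hA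
  · rw [sub_eq_zero.1 ht] at hCH
    obtain ⟨N, rfl⟩ : ∃ N, A = N + 1 := ⟨A - 1, by abel⟩
    have hN3 : N ^ 3 = 0 := by
      have e : N ^ 3 = (N + 1) ^ 3 - (3 : K) • (N + 1) ^ 2 + (3 : K) • (N + 1) - 1 := by
        simp only [show (3 : K) = ((3 : ℕ) : K) from Nat.cast_ofNat.symm, Nat.cast_smul_eq_nsmul]
        noncomm_ring
      rw [e, hCH]; abel
    have h1 : (7 : ℕ) • N + (21 : ℕ) • N ^ 2 = 0 := by
      have e : (N + 1) ^ 7 = 1 + ((7 : ℕ) • N + (21 : ℕ) • N ^ 2) +
          N ^ 3 * ((35 : ℕ) • (1 : M3) + (35 : ℕ) • N + (21 : ℕ) • N ^ 2 + (7 : ℕ) • N ^ 3 + N ^ 4) := by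
        noncomm_ring
      rw [hA, hN3, zero_mul, add_zero] at e
      exact left_eq_add.1 e
    have h2 : N ^ 2 = 0 := by
      have e := congrArg (· * N) h1
      simp only [add_mul, smul_mul_assoc, zero_mul, ← pow_two, ← pow_succ, hN3, smul_zero, add_zero,
        ← Nat.cast_smul_eq_nsmul K] at e
      exact (smul_eq_zero.1 e).resolve_left (by exact_mod_cast h7)
    rw [h2, smul_zero, add_zero, ← Nat.cast_smul_eq_nsmul K] at h1
    exact hA1 (by rw [(smul_eq_zero.1 h1).resolve_left (by exact_mod_cast h7), zero_add])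

/-- The centraliser of a Frobenius group of order twenty-one is scalar. -/
theorem scalar_of_frobenius {A R M : M3} (hA : A ^ 7 = 1) (hdet : (1 - A).det ≠ 0) (hR : IsUnit R)
    (hAR : A ^ 2 * R = R * A) (hMA : M * A = A * M) (hMR : M * R = R * M) :
    ∃ c : K, M = c • (1 : M3) := by
  classical
  let L := AlgebraicClosure K
  let φ : M3 →+* Matrix (Fin 3) (Fin 3) L := RingHom.mapMatrix (algebraMap K L)
  obtain ⟨z, hz⟩ := IsAlgClosed.exists_root (φ A).charpoly
    (by rw [Matrix.charpoly_degree_eq_dim]; simp)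
  rw [Polynomial.IsRoot.def, Matrix.eval_charpoly] at hz
  obtain ⟨v, hv0, hv⟩ := Matrix.exists_mulVec_eq_zero_iff.2 hz
  rw [Matrix.sub_mulVec, sub_eq_zero, Matrix.scalar_apply, ← Matrix.smul_one_eq_diagonal, Matrix.smul_mulVec,
    Matrix.one_mulVec] at hv
  have hz1 : z ≠ 1 := by
    intro e
    refine hdet ((algebraMap K L).injective ?_)
    rw [map_zero, RingHom.map_det, map_sub, map_one, ← hz, e, map_one]
  have hpow : ∀ n : ℕ, φ A ^ n *ᵥ v = z ^ n • v := by
    intro n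
    induction n with
    | zero => simp
    | succ n ih =>
      rw [pow_succ, ← Matrix.mulVec_mulVec, ← hv, Matrix.mulVec_smul, ih, smul_smul, pow_succ']
  have hz7 : z ^ 7 = 1 := by
    have h := hpow 7
    rw [← map_pow, hA, map_one, Matrix.one_mulVec] at h
    obtain ⟨k, hk⟩ := Function.ne_iff.1 hv0
    exact (mul_eq_right₀ hk).1 (congrFun h k).symm
  have hord : ∀ i, 0 < i → i < 7 → z ^ i ≠ 1 := fun i h0 h1 e => by
    have h := orderOf_dvd_of_pow_eq_one e
    haveI : Fact (Nat.Prime 7) := ⟨by norm_num⟩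
    rw [orderOf_eq_prime hz7 hz1] at h
    have := Nat.le_of_dvd h0 h
    omega
  have hAR4 : φ A * φ R = φ R * φ A ^ 4 := by
    rw [← map_pow, ← map_mul, ← map_mul]
    congr 1
    have hsc : SemiconjBy R A (A ^ 2) := hAR.symm
    have e : R * A ^ 4 = (A ^ 2) ^ 4 * R := (hsc.pow_right 4).eq
    rw [e, ← pow_mul, show 2 * 4 = 7 + 1 from rfl, pow_succ, hA, one_mul]
  have hRu : IsUnit (φ R) := hR.map φ
  have hstep : ∀ (w : Fin 3 → L) (μ : L), φ A *ᵥ w = μ • w → φ A *ᵥ (φ R *ᵥ w) = μ ^ 4 • (φ R *ᵥ w) := by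
    intro w μ hw
    have h4 : ∀ n : ℕ, φ A ^ n *ᵥ w = μ ^ n • w := by
      intro n
      induction n with
      | zero => simp
      | succ n ih => rw [pow_succ, ← Matrix.mulVec_mulVec, hw, Matrix.mulVec_smul, ih, smul_smul, pow_succ']
    rw [Matrix.mulVec_mulVec, hAR4, ← Matrix.mulVec_mulVec, h4, Matrix.mulVec_smul]
  have hRne : ∀ w : Fin 3 → L, w ≠ 0 → φ R *ᵥ w ≠ 0 := fun w hw e =>
    hw (Matrix.mulVec_injective_iff_isUnit.2 hRu (by rw [e, Matrix.mulVec_zero]))
  let μs : Fin 3 → L := ![z, z ^ 4, z ^ 16]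
  let b : Fin 3 → Fin 3 → L := ![v, φ R *ᵥ v, φ R *ᵥ (φ R *ᵥ v)]
  have hb : ∀ i, φ A *ᵥ b i = μs i • b i := by
    intro i
    fin_cases i
    · exact hv.symm
    · exact hstep _ _ hv.symm
    · show φ A *ᵥ _ = z ^ 16 • _
      rw [show (16 : ℕ) = 4 * 4 from rfl, pow_mul]
      exact hstep _ _ (hstep _ _ hv.symm)
  have hz0 : z ≠ 0 := fun e => by rw [e, zero_pow (by norm_num)] at hz7; exact zero_ne_one hz7
  have h16 : z ^ 16 = z ^ 2 := by rw [show (16 : ℕ) = 7 * 2 + 2 from rfl, pow_add, pow_mul, hz7, one_pow, one_mul]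
  have d01 : z ≠ z ^ 4 := fun e => hord 3 (by norm_num) (by norm_num)
    (mul_left_cancel₀ hz0 (by rw [mul_one, ← pow_succ']; exact e.symm))
  have d02 : z ≠ z ^ 16 := fun e => hz1 (mul_left_cancel₀ hz0 (by rw [mul_one, ← pow_two, ← h16]; exact e.symm))
  have d12 : z ^ 4 ≠ z ^ 16 := fun e => hord 2 (by norm_num) (by norm_num)
    (mul_left_cancel₀ (pow_ne_zero 2 hz0) (by rw [mul_one, ← pow_add, ← h16]; exact e))
  have hinj : Function.Injective μs := by
    intro i j
    fin_cases i <;> fin_cases j <;> simp [μs, d01, d01.symm, d02, d02.symm, d12, d12.symm]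
  have hbne : ∀ i, b i ≠ 0 := by
    intro i; fin_cases i
    exacts [hv0, hRne _ hv0, hRne _ (hRne _ hv0)]
  have hli : LinearIndependent L b :=
    Module.End.eigenvectors_linearIndependent' (Matrix.toLin' (φ A)) μs hinj b fun i =>
      ⟨Module.End.mem_eigenspace_iff.2 (by rw [Matrix.toLin'_apply]; exact hb i), hbne i⟩
  let B := basisOfLinearIndependentOfCardEqFinrank hli (by simp)
  have hB : ∀ i, B i = b i := fun i => by simp [B]
  -- the first vector is an eigenvector of `M`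
  have hmv : φ A *ᵥ (φ M *ᵥ v) = z • (φ M *ᵥ v) := by
    rw [Matrix.mulVec_mulVec, ← map_mul, ← hMA, map_mul, ← Matrix.mulVec_mulVec, ← hv, Matrix.mulVec_smul]
  have hsum := B.sum_repr (φ M *ᵥ v)
  set c := B.repr (φ M *ᵥ v) with hc
  have hzero : ∀ i, c i * (μs i - z) = 0 := by
    intro i
    have e1 : ∑ j, (c j * μs j) • B j = ∑ j, (c j * z) • B j := by
      have h := hmv
      rw [← hsum, Matrix.mulVec_sum, Finset.smul_sum] at h
      simpa [Matrix.mulVec_smul, hB, hb, smul_smul, mul_comm z] using h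
    have e2 := congrArg (fun w => B.repr w i) e1
    simp only [Module.Basis.repr_sum_self] at e2
    linear_combination e2
  have hMv : φ M *ᵥ v = c 0 • v := by
    have hc1 : c 1 = 0 := (mul_eq_zero.1 (hzero 1)).resolve_right (sub_ne_zero.2 (by simpa [μs] using d01.symm))
    have hc2 : c 2 = 0 := (mul_eq_zero.1 (hzero 2)).resolve_right (sub_ne_zero.2 (by simpa [μs] using d02.symm))
    rw [← hsum]
    simp [Fin.sum_univ_three, hc1, hc2, hB, b]
  have hall : ∀ i, φ M *ᵥ b i = c 0 • b i := by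
    have hR' : ∀ w, φ M *ᵥ w = c 0 • w → φ M *ᵥ (φ R *ᵥ w) = c 0 • (φ R *ᵥ w) := fun w hw => by
      rw [Matrix.mulVec_mulVec, ← map_mul, hMR, map_mul, ← Matrix.mulVec_mulVec, hw, Matrix.mulVec_smul]
    intro i; fin_cases i
    exacts [hMv, hR' _ hMv, hR' _ (hR' _ hMv)]
  have hfin : φ M = c 0 • (1 : Matrix (Fin 3) (Fin 3) L) := by
    refine Matrix.toLin'.injective (B.ext fun i => ?_)
    rw [Matrix.toLin'_apply, Matrix.toLin'_apply, hB, hall i, Matrix.smul_mulVec, Matrix.one_mulVec]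
  refine ⟨M 0 0, ?_⟩
  ext i j
  have e : ∀ i j, algebraMap K L (M i j) = (c 0 • (1 : Matrix (Fin 3) (Fin 3) L)) i j := fun i j =>
    congrFun (congrFun hfin i) j
  apply (algebraMap K L).injective
  rw [e i j]
  by_cases hij : i = j
  · subst hij; simp [e 0 0]
  · simp [hij]

end matrices

variable {K : Type*} [Field K] [Fintype K] {H : Type*} [Group H]

/-- The group is the socle. -/
theorem inner_168 {G P : Subgroup (GL (Fin 3) K)} (hP : Ctx P) (hinv : Inv G P) (h7 : (7 : K) ≠ 0)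
    (hc : Nat.card (P ⧸ (scalars (Fin 3) K).subgroupOf P) = 168) :
    ∀ g ∈ G, ∃ x ∈ P, x⁻¹ * g ∈ scalars (Fin 3) K := by
  classical
  haveI := hP.simple
  haveI : Fact (Nat.Prime 7) := ⟨by norm_num⟩
  have ht : ∀ z : P, z ∈ (scalars (Fin 3) K).subgroupOf P → z = 1 := fun z hz =>
    sc_trivial hP (by rw [hc]; norm_num) hz
  have hbot : (scalars (Fin 3) K).subgroupOf P = ⊥ := (Subgroup.eq_bot_iff_forall _).2 ht
  have hcard : Nat.card P = 168 := by
    rw [Subgroup.card_eq_card_quotient_mul_card_subgroup ((scalars (Fin 3) K).subgroupOf P), hc, hbot,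
      Subgroup.card_bot, mul_one]
  obtain ⟨a, ha⟩ := exists_prime_orderOf_dvd_card' (G := P) 7 (by rw [hcard]; norm_num)
  have ha7 : a ^ 7 = 1 := ha ▸ pow_orderOf_eq_one a
  have hane : ∀ i, 0 < i → i < 7 → a ^ i ≠ 1 := fun i h0 h1 e => by
    have := Nat.le_of_dvd h0 (ha ▸ orderOf_dvd_of_pow_eq_one e); omega
  have lift : ∀ (x : P) (n : ℕ), (x : P ⧸ (scalars (Fin 3) K).subgroupOf P) ^ n = 1 → x ^ n = 1 :=
    fun x n hn => pow_eq_one_of_trivial ht (MulEquiv.refl _) hn
  have h34 : ∀ x : P, x ^ 3 = 1 ∨ x ^ 4 = 1 ∨ x ^ 7 = 1 := fun x => by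
    rcases classes_168 hc (x : P ⧸ (scalars (Fin 3) K).subgroupOf P) with ⟨h, -⟩ | ⟨h, -⟩ | ⟨h, -⟩
    exacts [Or.inl (lift _ _ h), Or.inr (Or.inl (lift _ _ h)), Or.inr (Or.inr (lift _ _ h))]
  obtain ⟨r, hr⟩ : ∃ r : P, r * a * r⁻¹ = a ^ 2 := by
    rcases classes_168 hc (a : P ⧸ (scalars (Fin 3) K).subgroupOf P) with ⟨h, -⟩ | ⟨h, -⟩ | ⟨-, hg⟩
    · exact absurd (lift _ _ h) (hane 3 (by norm_num) (by norm_num))
    · exact absurd (lift _ _ h) (hane 4 (by norm_num) (by norm_num))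
    · exact conj_of_trivial ht (by simpa using hg)
  -- the centraliser of `a` in `P`
  have hcent : ∀ d : P, d * a = a * d → ∃ i : ℕ, d = a ^ i := by
    intro d hd
    have hd7 : d ^ 7 = 1 := by
      have hdd : Commute d a := hd
      have hu : ∀ (n : ℕ), d ^ n = 1 → n = 3 ∨ n = 4 → d = 1 := by
        intro n hn hn34
        have hfin : ∀ m, (d * a) ^ m = 1 → (m = 3 ∨ m = 4 ∨ m = 7) → m = 7 ∧ d ^ 7 = 1 := by
          intro m hm h
          rw [hdd.mul_pow] at hm
          rcases h with rfl | rfl | rfl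
          · exfalso
            have e : (d ^ 3 * a ^ 3) ^ n = 1 := by rw [hm, one_pow]
            rw [(hdd.pow_pow 3 3).mul_pow, ← pow_mul, ← pow_mul, mul_comm 3 n, pow_mul d, hn, one_pow, one_mul] at e
            rcases hn34 with rfl | rfl
            · rw [show 3 * 3 = 7 + 2 from rfl, pow_add, ha7, one_mul] at e; exact hane 2 (by norm_num) (by norm_num) e
            · rw [show 4 * 3 = 7 + 5 from rfl, pow_add, ha7, one_mul] at e; exact hane 5 (by norm_num) (by norm_num) e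
          · exfalso
            have e : (d ^ 4 * a ^ 4) ^ n = 1 := by rw [hm, one_pow]
            rw [(hdd.pow_pow 4 4).mul_pow, ← pow_mul, ← pow_mul, mul_comm 4 n, pow_mul d, hn, one_pow, one_mul] at e
            rcases hn34 with rfl | rfl
            · rw [show 3 * 4 = 7 + 5 from rfl, pow_add, ha7, one_mul] at e; exact hane 5 (by norm_num) (by norm_num) e
            · rw [show 4 * 4 = 7 + 7 + 2 from rfl, pow_add, pow_add, ha7, one_mul, one_mul] at e
              exact hane 2 (by norm_num) (by norm_num) e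
          · rw [ha7, mul_one] at hm
            exact ⟨rfl, hm⟩
        have hd7' : d ^ 7 = 1 := by
          rcases h34 (d * a) with h | h | h
          · exact (hfin 3 h (Or.inl rfl)).2
          · exact (hfin 4 h (Or.inr (Or.inl rfl))).2
          · exact (hfin 7 h (Or.inr (Or.inr rfl))).2
        rcases hn34 with rfl | rfl
        · rw [show 7 = 3 + 3 + 1 from rfl, pow_add, pow_add, hn, one_mul, one_mul, pow_one] at hd7'; exact hd7'
        · have h1 : d ^ 3 = 1 := by rw [show 7 = 4 + 3 from rfl, pow_add, hn, one_mul] at hd7'; exact hd7'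
          rw [show 4 = 3 + 1 from rfl, pow_add, h1, one_mul, pow_one] at hn; exact hn
      rcases h34 d with h | h | h
      · rw [hu 3 h (Or.inl rfl), one_pow]
      · rw [hu 4 h (Or.inr rfl), one_pow]
      · exact h
    by_contra hno
    push Not at hno
    let U : Subgroup P := Subgroup.closure {a, d}
    haveI : IsMulCommutative U := Subgroup.isMulCommutative_closure (by
      rintro x (rfl | rfl) y (rfl | rfl)
      exacts [rfl, hd.symm, hd, rfl])
    have hexp : ∀ x : U, x ^ 7 = 1 := by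
      rintro ⟨x, hx⟩
      apply Subtype.ext
      show x ^ 7 = 1
      induction hx using Subgroup.closure_induction with
      | mem y hy => rcases hy with rfl | rfl <;> assumption
      | one => exact one_pow _
      | mul y z hy hz ihy ihz =>
        have hc' : Commute y z := congrArg Subtype.val (mul_comm' (⟨y, hy⟩ : U) ⟨z, hz⟩)
        rw [hc'.mul_pow, ihy, ihz, one_mul]
      | inv y _ ihy => rw [inv_pow, ihy, inv_one]
    have hpg : IsPGroup 7 U := fun x => ⟨1, by rw [pow_one]; exact hexp x⟩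
    obtain ⟨k, hk⟩ := IsPGroup.iff_card.1 hpg
    have hk1 : k ≤ 1 := by
      by_contra h
      have h49 : 7 ^ 2 ∣ Nat.card U := hk ▸ pow_dvd_pow 7 (by omega)
      have := h49.trans (Subgroup.card_subgroup_dvd_card U)
      rw [hcard] at this
      norm_num at this
    have hle : Subgroup.zpowers a ≤ U := Subgroup.zpowers_le.2 (Subgroup.subset_closure (Or.inl rfl))
    have heq : Subgroup.zpowers a = U := Subgroup.eq_of_le_of_card_ge hle (by
      rw [Nat.card_zpowers, ha, hk]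
      exact (Nat.pow_le_pow_right (by norm_num) hk1).trans (by norm_num))
    have hdm : d ∈ Subgroup.zpowers a := heq ▸ Subgroup.subset_closure (Or.inr rfl)
    obtain ⟨i, hi⟩ := (mem_powers_iff_mem_zpowers.2 hdm : d ∈ Submonoid.powers a)
    exact hno i hi.symm
  -- matrices
  set A : Matrix (Fin 3) (Fin 3) K := ((a : GL (Fin 3) K) : Matrix (Fin 3) (Fin 3) K) with hAdef
  have hA7 : A ^ 7 = 1 := by
    rw [hAdef, ← Units.val_pow_eq_pow_val, ← SubgroupClass.coe_pow, ha7]; rfl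
  have hA1 : A ≠ 1 := fun e => hane 1 one_pos (by norm_num) (by rw [pow_one]; exact Subtype.ext (Units.ext e))
  have hdetA : A.det = 1 := congrArg Units.val (hP.le_sl a.2 : Matrix.GeneralLinearGroup.det (a : GL (Fin 3) K) = 1)
  let T : P → K := fun x => ((x : GL (Fin 3) K) : Matrix (Fin 3) (Fin 3) K).trace
  have hconj : ∀ (g : GL (Fin 3) K) (M : Matrix (Fin 3) (Fin 3) K),
      ((g : Matrix (Fin 3) (Fin 3) K) * M * ((g⁻¹ : GL (Fin 3) K) : Matrix (Fin 3) (Fin 3) K)).trace = M.trace := by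
    intro g M
    rw [Matrix.trace_mul_comm, ← Matrix.mul_assoc, Units.inv_mul, Matrix.one_mul]
  have hT2 : ∀ n, T (a ^ (2 * n)) = T (a ^ n) := by
    intro n
    rw [pow_mul, ← hr, conj_pow]
    show (((r * a ^ n * r⁻¹ : P) : GL (Fin 3) K) : Matrix (Fin 3) (Fin 3) K).trace = _
    rw [Subgroup.coe_mul, Subgroup.coe_mul, Subgroup.coe_inv, Units.val_mul, Units.val_mul, hconj]
  have hTA : ∀ n, T (a ^ n) = (A ^ n).trace := fun n => by
    show (((a ^ n : P) : GL (Fin 3) K) : Matrix (Fin 3) (Fin 3) K).trace = _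
    rw [SubgroupClass.coe_pow, Units.val_pow_eq_pow_val]
  have hsq : (A ^ 2).trace = A.trace := by
    have h := hT2 1
    rwa [mul_one, hTA, hTA, pow_one] at h
  have hd1 := det_one_sub_ne_zero h7 hdetA hA7 hA1 hsq
  have hT36 : T (a ^ 6) ≠ T (a ^ 1) := by
    intro e
    rw [hTA, hTA, pow_one] at e
    refine hd1 ?_
    have hCH := congrArg (fun M => (M * A ^ 6).trace) (cayley_three A)
    simp only [sub_mul, add_mul, Matrix.smul_mul, Matrix.one_mul, ← pow_add, ← pow_succ', Matrix.trace_add,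
      Matrix.trace_sub, Matrix.trace_smul, smul_eq_mul, hdetA] at hCH
    rw [show 3 + 6 = 7 + 2 from rfl, show 2 + 6 = 7 + 1 from rfl, pow_add, pow_add, hA7, Matrix.one_mul,
      Matrix.one_mul, pow_one, hsq, e] at hCH
    simp only [Matrix.trace_one, Fintype.card_fin] at hCH
    rw [det_one_sub, hdetA]
    have h2 := trace_sq A
    rw [hsq] at h2
    push_cast at hCH
    linear_combination hCH - h2
  intro g hg
  -- Frattini argument
  have hgag : g * (a : GL (Fin 3) K) * g⁻¹ ∈ P := hinv g hg a a.2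
  set b : P := ⟨_, hgag⟩
  have hb7 : orderOf b = 7 := by
    refine orderOf_eq_prime (Subtype.ext ?_) (fun e => hane 1 one_pos (by norm_num) ?_)
    · rw [SubgroupClass.coe_pow]
      show (g * (a : GL (Fin 3) K) * g⁻¹) ^ 7 = 1
      rw [conj_pow, ← SubgroupClass.coe_pow, ha7, Subgroup.coe_one, mul_one, mul_inv_cancel]
    · have e' : g * (a : GL (Fin 3) K) * g⁻¹ = 1 := congrArg Subtype.val e
      rw [pow_one]
      exact Subtype.ext (conj_eq_one_iff.1 e')
  have hS : ∀ y : P, orderOf y = 7 → Nat.card (Subgroup.zpowers y) = 7 ^ (Nat.card P).factorization 7 := by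
    intro y hy
    rw [Nat.card_zpowers, hy, hcard, show (168 : ℕ) = 7 * 24 from rfl, Nat.factorization_mul (by norm_num) (by norm_num),
      Finsupp.add_apply, Nat.Prime.factorization_self (by norm_num), Nat.factorization_eq_zero_of_not_dvd (by norm_num)]
    rfl
  obtain ⟨x, hx⟩ := MulAction.exists_smul_eq P (Sylow.ofCard (Subgroup.zpowers a) (hS a ha))
    (Sylow.ofCard (Subgroup.zpowers b) (hS b hb7))
  have hbx : x⁻¹ * b * x ∈ Subgroup.zpowers a := by
    have h : b ∈ ((x • Sylow.ofCard (Subgroup.zpowers a) (hS a ha) : Sylow 7 P) : Subgroup P) := by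
      rw [hx]; exact Subgroup.mem_zpowers b
    rw [Sylow.coe_subgroup_smul, Subgroup.mem_pointwise_smul_iff_inv_smul_mem, MulAut.smul_def,
      MulAut.conj_inv_apply] at h
    exact h
  obtain ⟨j, hj⟩ := (mem_powers_iff_mem_zpowers.2 hbx : x⁻¹ * b * x ∈ Submonoid.powers a)
  simp only at hj
  rw [← pow_mod_orderOf, ha] at hj
  set h := (x : GL (Fin 3) K)⁻¹ * g with hh
  have hha : h * (a : GL (Fin 3) K) * h⁻¹ = ((a ^ (j % 7) : P) : GL (Fin 3) K) := by
    rw [hj, Subgroup.coe_mul, Subgroup.coe_mul, Subgroup.coe_inv, hh]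
    show _ = (x : GL (Fin 3) K)⁻¹ * (g * a * g⁻¹) * x
    group
  have hTj : T (a ^ (j % 7)) = T (a ^ 1) := by
    show (((a ^ (j % 7) : P) : GL (Fin 3) K) : Matrix (Fin 3) (Fin 3) K).trace = _
    rw [← hha, Units.val_mul, Units.val_mul, hconj, pow_one]
  -- a correction inside `P`
  obtain ⟨u, hu⟩ : ∃ u : P, u * a ^ (j % 7) * u⁻¹ = a := by
    have hr' : r⁻¹ * a ^ 2 * r = a := by rw [← hr]; group
    have hlt := Nat.mod_lt j (show 7 > 0 by norm_num)
    generalize j % 7 = i at hTj hha hlt ⊢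
    have e3 : T (a ^ 3) = T (a ^ 6) := (hT2 3).symm
    have e5 : T (a ^ 5) = T (a ^ 6) := by
      have h := hT2 6
      rwa [show 2 * 6 = 7 + 5 from rfl, pow_add, ha7, one_mul] at h
    interval_cases i
    · exfalso
      rw [pow_zero, Subgroup.coe_one] at hha
      exact hane 1 one_pos (by norm_num) (by rw [pow_one]; exact Subtype.ext (conj_eq_one_iff.1 hha))
    · exact ⟨1, by simp⟩
    · exact ⟨r⁻¹, by rw [inv_inv, hr']⟩
    · exact absurd (e3 ▸ hTj) hT36
    · refine ⟨r⁻¹ * r⁻¹, ?_⟩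
      have e : r⁻¹ * a ^ 4 * r = a ^ 2 := by
        calc r⁻¹ * a ^ 4 * r = r⁻¹ * (r * a * r⁻¹) ^ 2 * r := by rw [hr, ← pow_mul]
          _ = a ^ 2 := by rw [conj_pow]; group
      calc (r⁻¹ * r⁻¹) * a ^ 4 * (r⁻¹ * r⁻¹)⁻¹ = r⁻¹ * (r⁻¹ * a ^ 4 * r) * r := by
            simp [mul_assoc]
        _ = a := by rw [e, hr']
    · exact absurd (e5 ▸ hTj) hT36
    · exact absurd hTj hT36
  obtain ⟨h1, hh1⟩ : ∃ h1, h1 = (u : GL (Fin 3) K) * h := ⟨_, rfl⟩
  have h1a : h1 * (a : GL (Fin 3) K) * h1⁻¹ = a := by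
    rw [hh1, show (u : GL (Fin 3) K) * h * a * (u * h)⁻¹ = u * (h * a * h⁻¹) * (u : GL (Fin 3) K)⁻¹ by group, hha,
      ← Subgroup.coe_inv, ← Subgroup.coe_mul, ← Subgroup.coe_mul, hu]
  have hxG : ∀ y ∈ P, h1 * y * h1⁻¹ ∈ P := by
    intro y hy
    rw [hh1, hh, show (u : GL (Fin 3) K) * ((x : GL (Fin 3) K)⁻¹ * g) * y * (u * ((x : GL (Fin 3) K)⁻¹ * g))⁻¹ =
      (u * x⁻¹ : P) * (g * y * g⁻¹) * ((u * x⁻¹ : P) : GL (Fin 3) K)⁻¹ by
        rw [Subgroup.coe_mul, Subgroup.coe_inv]; group]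
    exact P.mul_mem (P.mul_mem (u * x⁻¹).2 (hinv g hg y hy)) (P.inv_mem (u * x⁻¹).2)
  obtain ⟨i, hi⟩ : ∃ i : ℕ, r⁻¹ * (⟨_, hxG r r.2⟩ : P) = a ^ i := by
    refine hcent _ (Subtype.ext ?_)
    simp only [Subgroup.coe_mul, Subgroup.coe_inv]
    have hra : (r : GL (Fin 3) K) * a * (r : GL (Fin 3) K)⁻¹ = (a : GL (Fin 3) K) ^ 2 := by
      rw [← SubgroupClass.coe_pow, ← hr]; simp
    have e1 : (h1 * r * h1⁻¹) * (a : GL (Fin 3) K) * (h1 * r * h1⁻¹)⁻¹ = (a : GL (Fin 3) K) ^ 2 := by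
      have e0 : h1⁻¹ * (a : GL (Fin 3) K) * h1 = a := by
        conv_lhs => rw [← h1a]
        group
      calc (h1 * r * h1⁻¹) * (a : GL (Fin 3) K) * (h1 * r * h1⁻¹)⁻¹
          = h1 * (r * (h1⁻¹ * a * h1) * (r : GL (Fin 3) K)⁻¹) * h1⁻¹ := by group
        _ = _ := by rw [e0, hra, ← conj_pow, h1a]
    calc (r : GL (Fin 3) K)⁻¹ * (h1 * r * h1⁻¹) * a
        = (r : GL (Fin 3) K)⁻¹ * ((h1 * r * h1⁻¹) * a * (h1 * r * h1⁻¹)⁻¹) * (h1 * r * h1⁻¹) := by group
      _ = (r : GL (Fin 3) K)⁻¹ * ((r : GL (Fin 3) K) * a * (r : GL (Fin 3) K)⁻¹) * (h1 * r * h1⁻¹) := by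
        rw [e1, hra]
      _ = a * ((r : GL (Fin 3) K)⁻¹ * (h1 * r * h1⁻¹)) := by group
  have hAR : ((a : GL (Fin 3) K) : Matrix (Fin 3) (Fin 3) K) ^ 2 * ((r : GL (Fin 3) K) : Matrix (Fin 3) (Fin 3) K) =
      ((r : GL (Fin 3) K) : Matrix (Fin 3) (Fin 3) K) * A := by
    have e : (a ^ 2 * r : P) = r * a := by rw [← hr]; group
    have e' := congrArg (fun y : P => ((y : GL (Fin 3) K) : Matrix (Fin 3) (Fin 3) K)) e
    simpa using e'
  obtain ⟨h2, hh2⟩ : ∃ h2, h2 = (a : GL (Fin 3) K) ^ (2 * i) * h1 := ⟨_, rfl⟩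
  have h2a : h2 * (a : GL (Fin 3) K) = a * h2 := by
    rw [hh2, mul_assoc, mul_inv_eq_iff_eq_mul.1 h1a, ← mul_assoc, ← mul_assoc,
      (Commute.pow_self (a : GL (Fin 3) K) (2 * i)).eq]
  have h2r : h2 * (r : GL (Fin 3) K) = r * h2 := by
    have e1 : h1 * (r : GL (Fin 3) K) = r * (a : GL (Fin 3) K) ^ i * h1 := by
      have e := congrArg Subtype.val hi
      simp only [Subgroup.coe_mul, Subgroup.coe_inv, SubgroupClass.coe_pow] at e
      rw [← e]
      group
    have e2 : (a : GL (Fin 3) K) ^ (2 * i) * r = r * (a : GL (Fin 3) K) ^ (8 * i) := by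
      have hsc : SemiconjBy r a (a ^ 2) := mul_inv_eq_iff_eq_mul.1 hr
      have e := congrArg Subtype.val (hsc.pow_right i).eq
      rw [← pow_mul] at e
      simp only [Subgroup.coe_mul, SubgroupClass.coe_pow] at e
      rw [← e]
      congr 1
      simp only [← SubgroupClass.coe_pow]
      congr 1
      rw [show 8 * i = 7 * i + i by ring, pow_add, pow_mul, ha7, one_pow, one_mul]
    rw [hh2, mul_assoc, e1, ← mul_assoc, ← mul_assoc, e2, mul_assoc (r : GL (Fin 3) K), ← pow_add,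
      show 8 * i + i = 7 * i + 2 * i by ring, pow_add, pow_mul, ← SubgroupClass.coe_pow, ha7, Subgroup.coe_one,
      one_pow, one_mul, mul_assoc]
  obtain ⟨c, hc2⟩ := scalar_of_frobenius (M := (h2 : Matrix (Fin 3) (Fin 3) K)) hA7 hd1 (r : GL (Fin 3) K).isUnit hAR
    (congrArg Units.val h2a) (congrArg Units.val h2r)
  refine ⟨(x * u⁻¹ * (a ^ (2 * i))⁻¹ : P), (x * u⁻¹ * (a ^ (2 * i))⁻¹).2, ?_⟩
  have : ((x * u⁻¹ * (a ^ (2 * i))⁻¹ : P) : GL (Fin 3) K)⁻¹ * g = h2 := by
    rw [hh2, hh1, hh]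
    simp [mul_assoc]
  rw [this]
  exact Classical.mem_scalars_of_eq hc2

theorem equiv_of_168 [Finite H] {G P : Subgroup (GL (Fin 3) K)} {π : G →* H} (S : Sit H G π) (hP : Ctx P)
    (hPG : P ≤ G) (hinv : Inv G P) (h7 : (7 : K) ≠ 0)
    (hc : Nat.card (P ⧸ (scalars (Fin 3) K).subgroupOf P) = 168) :
    Nonempty (H ≃* (P ⧸ (scalars (Fin 3) K).subgroupOf P)) :=
  equiv_of_inner S hPG (inner_168 hP hinv h7 hc)

end Cfsg.Agent.PThree.Sub
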