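import Cfsg.Agent.Lib.Classical.PThree.Sub.Almost
import Cfsg.Agent.Lib.Classical.PThree.Sub.LTwoSeven
import Cfsg.Agent.Lib.Classical.PThree.Sub.AltFacts
import Cfsg.Agent.Lib.Perm.AltAut

/-!
# Socles of type `A₆` and `A₇`

Lifts of two disjoint three-cycles to `SL₃` have a commutator of order three. So nothing normalising
the preimage inverts this commutator: the transpositions and, in degree six, the automorphisms of
`PGL₂(9)` type do not occur. For `p ≠ 5` the traces of the elements of order five exclude the others.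
-/

set_option autoImplicit false
set_option linter.unusedSectionVars false
set_option linter.style.haveILetI false

namespace Cfsg.Agent.PThree.Sub

open Matrix Cfsg Cfsg.Geo
open scoped MatrixGroups commutatorElement

variable {K : Type*} [Field K] {P : Subgroup (GL (Fin 3) K)} {A : Type*} [Group A]

local notation "GL3" => GL (Fin 3) K
local notation "M3" => Matrix (Fin 3) (Fin 3) K

/-- `φ` identifies `P` modulo scalars with `A`. -/
structure Cov (P : Subgroup (GL (Fin 3) K)) (A : Type*) [Group A] (φ : P →* A) : Prop where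
  surj : Function.Surjective φ
  ker : ∀ x : P, φ x = 1 ↔ (x : GL (Fin 3) K) ∈ scalars (Fin 3) K
  det : ∀ x : P, ((x : GL (Fin 3) K) : Matrix (Fin 3) (Fin 3) K).det = 1

theorem Cov.of_equiv (hP : Ctx P) (e : (P ⧸ (scalars (Fin 3) K).subgroupOf P) ≃* A) :
    Cov P A (e.toMonoidHom.comp (QuotientGroup.mk' _)) where
  surj := e.surjective.comp (QuotientGroup.mk'_surjective _)
  ker x := by
    show e (QuotientGroup.mk' _ x) = 1 ↔ _
    rw [MulEquiv.map_eq_one_iff]
    exact (QuotientGroup.eq_one_iff _).trans Subgroup.mem_subgroupOf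
  det x := congrArg Units.val (hP.le_sl x.2 : Matrix.GeneralLinearGroup.det (x : GL3) = 1)

variable {φ : P →* A}

theorem Cov.mat_of_ker (h : Cov P A φ) {x : P} (hx : φ x = 1) :
    ∃ c : K, c ^ 3 = 1 ∧ ((x : GL3) : M3) = c • 1 := by
  obtain ⟨c, hc⟩ := (mem_scalars_iff _).1 ((h.ker x).1 hx)
  refine ⟨c, ?_, hc⟩
  have hd := h.det x
  rwa [hc, Matrix.det_smul, Matrix.det_one, Fintype.card_fin, mul_one] at hd

theorem trace_inv_eq {U V : M3} (hUV : U * V = 1) (hdet : U.det = 1) : V.trace = minorSum U := by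
  have h := congrArg (fun M => (M * V).trace) (cayley_three U)
  have h3 : U ^ 3 * V = U ^ 2 := by rw [pow_succ, Matrix.mul_assoc, hUV, Matrix.mul_one]
  have h2 : U ^ 2 * V = U := by rw [pow_two, Matrix.mul_assoc, hUV, Matrix.mul_one]
  simp only [h3, sub_mul, add_mul, Matrix.smul_mul, Matrix.one_mul, h2, hUV, hdet, one_smul,
    Matrix.trace_add, Matrix.trace_sub, Matrix.trace_smul, smul_eq_mul, Matrix.trace_one, Fintype.card_fin,
    trace_sq] at h
  push_cast at h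
  linear_combination -h

/-- A lift of a real element of order three has cube one and trace zero. -/
theorem Cov.trace_zero (h : Cov P A φ) (h2 : (2 : K) ≠ 0) {U W : P} (hu3 : φ U ^ 3 = 1) (hu1 : φ U ≠ 1)
    (hw : φ W * φ U * (φ W)⁻¹ = (φ U)⁻¹) :
    U ^ 3 = 1 ∧ ((U : GL3) : M3).trace = 0 := by
  obtain ⟨s, hs3, hs⟩ := h.mat_of_ker (x := U ^ 3) (by rw [map_pow, hu3])
  obtain ⟨k, hk3, hk⟩ := h.mat_of_ker (x := W * U * W⁻¹ * U) (by simp only [map_mul, map_inv, hw, inv_mul_cancel])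
  set M := ((U : GL3) : M3) with hM
  have hM3 : M ^ 3 = s • (1 : M3) := by rw [← hs, SubgroupClass.coe_pow, Units.val_pow_eq_pow_val]
  have hns : ∀ a b : K, a • M = b • (1 : M3) → a = 0 ∧ b = 0 := by
    intro a b hab
    have ha : a = 0 := by
      by_contra ha
      have e : M = (a⁻¹ * b) • (1 : M3) := by rw [← smul_smul, ← hab, inv_smul_smul₀ ha]
      exact hu1 ((h.ker U).2 (Classical.mem_scalars_of_eq e))
    refine ⟨ha, ?_⟩
    rw [ha, zero_smul] at hab
    simpa using (congrFun (congrFun hab.symm 0) 0)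
  have hte : M.trace = k * minorSum M := by
    have e : ((W : GL3) : M3) * M * ((W : GL3)⁻¹ : GL3) = k • ((U : GL3)⁻¹ : GL3) := by
      have e' := congrArg (fun X => X * (((U : GL3)⁻¹ : GL3) : M3)) hk
      simp only [Subgroup.coe_mul, Subgroup.coe_inv, Units.val_mul, Matrix.smul_mul, Matrix.one_mul,
        Matrix.mul_assoc, Units.mul_inv, Matrix.mul_one] at e'
      rw [Matrix.mul_assoc]
      exact e'
    have e2 := congrArg Matrix.trace e
    rwa [Matrix.trace_mul_comm, ← Matrix.mul_assoc, Units.inv_mul, Matrix.one_mul, Matrix.trace_smul, smul_eq_mul,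
      trace_inv_eq (Units.mul_inv _) (h.det U)] at e2
  have hrel : M.trace • M ^ 2 = minorSum M • M + (s - 1) • (1 : M3) := by
    have hCH := cayley_three M
    rw [hM3, h.det U, one_smul] at hCH
    rw [sub_smul, one_smul, hCH]
    abel
  by_cases ht : M.trace = 0
  · rw [ht, zero_smul] at hrel
    obtain ⟨-, hs1⟩ := hns (minorSum M) (1 - s) (by rw [sub_smul, one_smul, ← sub_eq_zero, hrel, sub_smul, one_smul]; abel)
    refine ⟨Subtype.ext (Units.ext ?_), ht⟩
    rw [hs, ← sub_eq_zero.1 hs1, one_smul]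
    rfl
  exfalso
  obtain ⟨a, ha⟩ : ∃ a, a = minorSum M / M.trace := ⟨_, rfl⟩
  obtain ⟨b, hb⟩ : ∃ b, b = (s - 1) / M.trace := ⟨_, rfl⟩
  have hsq : M ^ 2 = a • M + b • (1 : M3) := by
    refine smul_right_injective M3 ht ?_
    show M.trace • M ^ 2 = M.trace • (a • M + b • (1 : M3))
    rw [hrel, smul_add, smul_smul, smul_smul, ha, hb, mul_div_cancel₀ _ ht, mul_div_cancel₀ _ ht]
  have hcube : (a * a + b) • M = (s - a * b) • (1 : M3) := by
    have e : M ^ 3 = (a * a + b) • M + (a * b) • (1 : M3) := by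
      rw [pow_succ, hsq, add_mul, Matrix.smul_mul, ← pow_two, hsq, Matrix.smul_mul, Matrix.one_mul, smul_add,
        smul_smul, smul_smul, add_smul]
      abel
    rw [sub_smul, ← hM3, e]
    abel
  obtain ⟨e1, e2⟩ := hns _ _ hcube
  have ha3 : a ^ 3 = 1 := by
    have he : minorSum M ≠ 0 := fun e => ht (by rw [hte, e, mul_zero])
    rw [ha, hte, div_pow, mul_pow, hk3, one_mul, div_self (pow_ne_zero _ he)]
  exact h2 (by
    have hs' : s = -1 := by linear_combination e2 + a * e1 - ha3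
    rw [hs'] at hs3
    linear_combination -hs3)

/-- Lifts of two commuting independent elements of order three do not commute. -/
theorem Cov.not_commute (h : Cov P A φ) (h2 : (2 : K) ≠ 0) (h3 : (3 : K) ≠ 0) {U V W : P}
    (hu3 : φ U ^ 3 = 1) (hv3 : φ V ^ 3 = 1) (huv : φ U * φ V = φ V * φ U)
    (hwu : φ W * φ U * (φ W)⁻¹ = (φ U)⁻¹) (hwv : φ W * φ V * (φ W)⁻¹ = (φ V)⁻¹)
    (hind : ∀ i j : Fin 3, φ U ^ (i : ℕ) * φ V ^ (j : ℕ) = 1 → i = 0 ∧ j = 0) : U * V ≠ V * U := by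
  intro hcomm
  have hne : ∀ i j : Fin 3, ¬ (i = 0 ∧ j = 0) → φ (U ^ (i : ℕ) * V ^ (j : ℕ)) ≠ 1 := fun i j hij e =>
    hij (hind i j (by rwa [map_mul, map_pow, map_pow] at e))
  have huU : φ U ≠ 1 := fun e => absurd (hind 1 0 (by simp [e])).1 (by decide)
  have hvV : φ V ≠ 1 := fun e => absurd (hind 0 1 (by simp [e])).2 (by decide)
  obtain ⟨hU, -⟩ := h.trace_zero h2 hu3 huU hwu
  obtain ⟨hV, -⟩ := h.trace_zero h2 hv3 hvV hwv
  have key : ∀ i j : Fin 3, ¬ (i = 0 ∧ j = 0) →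
      (((U ^ (i : ℕ) * V ^ (j : ℕ) : P) : GL3) : M3).trace = 0 := fun i j hij => by
    have hc : Commute (φ U) (φ V) := huv
    refine (h.trace_zero h2 ?_ (hne i j hij) (W := W) ?_).2
    · rw [map_mul, map_pow, map_pow, (hc.pow_pow _ _).mul_pow, ← pow_mul, ← pow_mul, mul_comm (i : ℕ), mul_comm (j : ℕ),
        pow_mul, pow_mul, hu3, hv3, one_pow, one_pow, one_mul]
    · rw [map_mul, map_pow, map_pow, _root_.mul_inv_rev, (hc.pow_pow (i : ℕ) (j : ℕ)).inv_inv.symm.eq,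
        show φ W * (φ U ^ (i : ℕ) * φ V ^ (j : ℕ)) * (φ W)⁻¹ =
          (φ W * φ U ^ (i : ℕ) * (φ W)⁻¹) * (φ W * φ V ^ (j : ℕ) * (φ W)⁻¹) by group,
        ← conj_pow, ← conj_pow, hwu, hwv, inv_pow, inv_pow]
  let f : Fin 3 × Fin 3 → M3 := fun q => (((U ^ (q.1 : ℕ) * V ^ (q.2 : ℕ) : P) : GL3) : M3)
  have hprod : ∀ q r : Fin 3 × Fin 3, f q * f r = f (q.1 + r.1, q.2 + r.2) := by
    intro q r
    have hc : Commute U V := hcomm
    have hmod : ∀ (x : P), x ^ 3 = 1 → ∀ a b : Fin 3, x ^ (a : ℕ) * x ^ (b : ℕ) = x ^ ((a + b : Fin 3) : ℕ) := by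
      intro x hx a b
      rw [← pow_add, Fin.val_add, pow_eq_pow_mod _ hx]
    have e : (U ^ (q.1 : ℕ) * V ^ (q.2 : ℕ)) * (U ^ (r.1 : ℕ) * V ^ (r.2 : ℕ)) =
        U ^ ((q.1 + r.1 : Fin 3) : ℕ) * V ^ ((q.2 + r.2 : Fin 3) : ℕ) := by
      rw [mul_assoc, ← mul_assoc (V ^ (q.2 : ℕ)), (hc.pow_pow (r.1 : ℕ) (q.2 : ℕ)).symm.eq, mul_assoc,
        hmod V hV, ← mul_assoc, hmod U hU]
    have e' := congrArg (fun z : P => ((z : GL3) : M3)) e
    simpa [f, Subgroup.coe_mul] using e'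
  have htr : ∀ q : Fin 3 × Fin 3, (f q).trace = if q = 0 then 3 else 0 := by
    intro q
    by_cases hq : q = 0
    · subst hq; simp [f, Matrix.trace_one]
    · rw [if_neg hq]
      exact key _ _ (fun e => hq (Prod.ext e.1 e.2))
  have hli : LinearIndependent K f := by
    rw [Fintype.linearIndependent_iff]
    intro g hg q
    have e := congrArg (fun M => (M * f (-q.1, -q.2)).trace) hg
    simp only [Finset.sum_mul, Matrix.trace_sum, Matrix.smul_mul, Matrix.trace_smul, smul_eq_mul, Matrix.zero_mul,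
      Matrix.trace_zero, hprod, htr] at e
    rw [Finset.sum_eq_single q (fun r _ hr => by
      rw [if_neg (fun e' => hr ?_), mul_zero]
      obtain ⟨e1, e2⟩ := Prod.ext_iff.1 e'
      refine Prod.ext ?_ ?_
      · exact add_neg_eq_zero.1 e1
      · exact add_neg_eq_zero.1 e2) (by simp)] at e
    rw [if_pos (by simp [Prod.ext_iff])] at e
    exact (mul_eq_zero.1 e).resolve_right h3
  have hspan : Submodule.span K (Set.range f) = ⊤ :=
    hli.span_eq_top_of_card_eq_finrank (by simp [Module.finrank_matrix])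
  have hall : ∀ Y : M3, ((U : GL3) : M3) * Y = Y * ((U : GL3) : M3) := by
    intro Y
    have hY : Y ∈ Submodule.span K (Set.range f) := by rw [hspan]; trivial
    induction hY using Submodule.span_induction with
    | mem x hx =>
      obtain ⟨q, rfl⟩ := hx
      have e : U * (U ^ (q.1 : ℕ) * V ^ (q.2 : ℕ)) = (U ^ (q.1 : ℕ) * V ^ (q.2 : ℕ)) * U := by
        have hc : Commute U V := hcomm
        exact ((Commute.refl U).pow_right _).mul_right (hc.pow_right _)
      exact congrArg (fun z : P => ((z : GL3) : M3)) e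
    | zero => rw [Matrix.mul_zero, Matrix.zero_mul]
    | add x y _ _ hx hy => rw [Matrix.mul_add, Matrix.add_mul, hx, hy]
    | smul c x _ hx => rw [Matrix.mul_smul, Matrix.smul_mul, hx]
  obtain ⟨c, hc⟩ := Classical.scalar_of_commute_all hall
  exact huU ((h.ker U).2 (Classical.mem_scalars_of_eq hc))

/-- The automorphism induced by a normalising element. -/
def Induces (φ : P →* A) (g : GL (Fin 3) K) (θ : MulAut A) : Prop :=
  (∀ x ∈ P, g * x * g⁻¹ ∈ P) ∧ ∀ x y : P, (y : GL (Fin 3) K) = g * x * g⁻¹ → θ (φ x) = φ y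

theorem Cov.exists_induces [Finite A] (h : Cov P A φ) {g : GL3} (hg : ∀ x ∈ P, g * x * g⁻¹ ∈ P) :
    ∃ θ, Induces φ g θ := by
  let c : P →* A := φ.comp
    ({ toFun := fun x => ⟨g * x * g⁻¹, hg x x.2⟩
       map_one' := Subtype.ext (by simp)
       map_mul' := fun x y => Subtype.ext (by simp [mul_assoc]) } : P →* P)
  have hsc : ∀ x : GL3, g * x * g⁻¹ ∈ scalars (Fin 3) K ↔ x ∈ scalars (Fin 3) K := fun x => conj_mem_scalars g x
  have hker : φ.ker ≤ c.ker := fun x hx => MonoidHom.mem_ker.2 ((h.ker _).2 ((hsc _).2 ((h.ker x).1 hx)))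
  let θ0 := φ.liftOfSurjective h.surj ⟨c, hker⟩
  have hθ0 : ∀ x, θ0 (φ x) = c x := fun x => MonoidHom.liftOfRightInverse_comp_apply φ _ _ _ x
  have hinj : Function.Injective θ0 := by
    rw [← MonoidHom.ker_eq_bot_iff, eq_bot_iff]
    intro a ha
    obtain ⟨x, rfl⟩ := h.surj a
    rw [MonoidHom.mem_ker, hθ0] at ha
    exact Subgroup.mem_bot.2 ((h.ker x).2 ((hsc _).1 ((h.ker _).1 ha)))
  refine ⟨MulEquiv.ofBijective θ0 (Finite.injective_iff_bijective.1 hinj), hg, fun x y hy => ?_⟩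
  show θ0 (φ x) = φ y
  rw [hθ0, show y = ⟨g * x * g⁻¹, hg x x.2⟩ from Subtype.ext hy]
  rfl

theorem Induces.mul {g g' : GL3} {θ θ' : MulAut A} (h : Induces φ g θ) (h' : Induces φ g' θ') :
    Induces φ (g * g') (θ * θ') := by
  have e : ∀ x : GL3, g * g' * x * (g * g')⁻¹ = g * (g' * x * g'⁻¹) * g⁻¹ := fun x => by group
  refine ⟨fun x hx => by rw [e]; exact h.1 _ (h'.1 x hx), fun x y hy => ?_⟩
  rw [MulAut.mul_apply, h'.2 x ⟨_, h'.1 x x.2⟩ rfl]
  exact h.2 _ y (by rw [hy, e])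

theorem induces_inner (z : P) : Induces φ (z : GL3) (MulAut.conj (φ z)) := by
  refine ⟨fun x hx => P.mul_mem (P.mul_mem z.2 hx) (P.inv_mem z.2), fun x y hy => ?_⟩
  rw [show y = z * x * z⁻¹ from Subtype.ext (by rw [hy]; rfl), map_mul, map_mul, map_inv, MulAut.conj_apply]

/-- Nothing inverts the commutator of the lifts. -/
theorem Cov.no_invert (h : Cov P A φ) (h2 : (2 : K) ≠ 0) (h3 : (3 : K) ≠ 0) {u v w : A}
    (hu3 : u ^ 3 = 1) (hv3 : v ^ 3 = 1) (huv : u * v = v * u) (hwu : w * u * w⁻¹ = u⁻¹) (hwv : w * v * w⁻¹ = v⁻¹)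
    (hind : ∀ i j : Fin 3, u ^ (i : ℕ) * v ^ (j : ℕ) = 1 → i = 0 ∧ j = 0) {g : GL3} {θ : MulAut A}
    (hg : Induces φ g θ) (hθ : (θ u = u⁻¹ ∧ θ v = v) ∨ (θ u = u * v ∧ θ v = u⁻¹ * v)) : False := by
  obtain ⟨U, rfl⟩ := h.surj u
  obtain ⟨V, rfl⟩ := h.surj v
  obtain ⟨W, rfl⟩ := h.surj w
  have hne := h.not_commute h2 h3 hu3 hv3 huv hwu hwv hind
  have hUV : φ ⁅U, V⁆ = 1 := by
    rw [map_commutatorElement, commutatorElement_eq_one_iff_mul_comm]; exact huv
  have hcen : ∀ z : P, φ z = 1 → ∀ y : GL3, y * (z : GL3) = (z : GL3) * y := fun z hz y =>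
    Subgroup.mem_center_iff.1 (scalars_le_center ((h.ker z).1 hz)) y
  obtain ⟨C, hC⟩ : ∃ C, C = ((⁅U, V⁆ : P) : GL3) := ⟨_, rfl⟩
  have hCc : ∀ y : GL3, y * C = C * y := by rw [hC]; exact hcen _ hUV
  have hU3 : (U : GL3) ^ 3 = 1 := by
    have huU : φ U ≠ 1 := fun e => absurd (hind 1 0 (by simp [e])).1 (by decide)
    rw [← SubgroupClass.coe_pow, (h.trace_zero h2 hu3 huU hwu).1, Subgroup.coe_one]
  -- conjugation fixes the commutator
  have hfix : g * C * g⁻¹ = C := by rw [hCc g, mul_inv_cancel_right]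
  let U' : P := ⟨_, hg.1 U U.2⟩
  let V' : P := ⟨_, hg.1 V V.2⟩
  have hC' : ((⁅U', V'⁆ : P) : GL3) = C := by
    rw [← hfix, hC]
    simp [U', V', commutatorElement_def, mul_assoc]
  have hVU : (U : GL3) * V = C * (V * U) := by rw [hC]; simp [commutatorElement_def, mul_assoc]
  have hC3 : C ^ 3 = 1 := by
    have e : ∀ n : ℕ, (U : GL3) ^ n * V = C ^ n * (V * (U : GL3) ^ n) := by
      intro n
      induction n with
      | zero => simp
      | succ n ih =>
        calc (U : GL3) ^ (n + 1) * V = (U : GL3) ^ n * (C * ((V : GL3) * U)) := by rw [pow_succ, mul_assoc, hVU]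
          _ = C * ((U : GL3) ^ n * V * U) := by rw [← mul_assoc, hCc]; simp [mul_assoc]
          _ = C * (C ^ n * ((V : GL3) * (U : GL3) ^ n) * U) := by rw [ih]
          _ = _ := by rw [pow_succ' C, pow_succ (U : GL3)]; simp [mul_assoc]
    have h3 := e 3
    rw [hU3, one_mul, mul_one] at h3
    exact (mul_eq_right (a := C ^ 3) (b := (V : GL3))).1 h3.symm
  have hcentral : ∀ {a b : P}, φ a = φ b → ∃ z : P, φ z = 1 ∧ a = z * b := fun {a b} e =>
    ⟨a * b⁻¹, by rw [map_mul, map_inv, e, mul_inv_cancel], (inv_mul_cancel_right a b).symm⟩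
  have hcc : ∀ (z z' a b : P), φ z = 1 → φ z' = 1 → ⁅z * a, z' * b⁆ = ⁅a, b⁆ := by
    intro z z' a b hz hz'
    have hzc : ∀ y : P, y * z = z * y := fun y => Subtype.ext (hcen z hz y)
    have hzc' : ∀ y : P, y * z' = z' * y := fun y => Subtype.ext (hcen z' hz' y)
    have ez : Commute z (a * (z' * b) * a⁻¹) := (hzc _).symm
    calc ⁅z * a, z' * b⁆ = (z * (a * (z' * b) * a⁻¹) * z⁻¹) * (z' * b)⁻¹ := by
          rw [commutatorElement_def]; group
      _ = a * (z' * b) * a⁻¹ * (z' * b)⁻¹ := by rw [ez.eq, mul_inv_cancel_right]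
      _ = a * (b * z') * a⁻¹ * (b * z')⁻¹ := by rw [hzc' b]
      _ = a * b * (z' * a⁻¹) * (z'⁻¹ * b⁻¹) := by group
      _ = ⁅a, b⁆ := by rw [← hzc' a⁻¹, commutatorElement_def]; group
  have hC2 : C * C = C⁻¹ := eq_inv_of_mul_eq_one_left (by rw [← pow_two, ← pow_succ, hC3])
  rcases hθ with ⟨e1, e2⟩ | ⟨e1, e2⟩
  · obtain ⟨z, hz, ez⟩ := hcentral (a := U') (b := U⁻¹) (by rw [← hg.2 U U' rfl, e1, map_inv])
    obtain ⟨z', hz', ez'⟩ := hcentral (a := V') (b := V) (by rw [← hg.2 V V' rfl, e2])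
    rw [ez, ez', hcc _ _ _ _ hz hz'] at hC'
    have e : ((⁅U⁻¹, V⁆ : P) : GL3) = C⁻¹ := by
      rw [commutatorElement_def, Subgroup.coe_mul, Subgroup.coe_mul, Subgroup.coe_mul, Subgroup.coe_inv, inv_inv,
        Subgroup.coe_inv]
      have h1 : (V : GL3) * U = C⁻¹ * (U * V) := by rw [hVU, inv_mul_cancel_left]
      have h2 : ∀ y : GL3, y * C⁻¹ = C⁻¹ * y := fun y => ((show Commute y C from hCc y).inv_right).eq
      rw [mul_assoc ((U : GL3)⁻¹), h1, ← mul_assoc ((U : GL3)⁻¹), h2]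
      group
    rw [e] at hC'
    refine hne (Subtype.ext ?_)
    have hC1 : C = 1 := by
      have h4 : C * C = 1 := by
        nth_rewrite 1 [← hC']
        exact inv_mul_cancel C
      rw [← hC3, pow_succ, pow_two, h4, one_mul]
    show (U : GL3) * V = V * U
    rw [hVU, hC1, one_mul]
  · obtain ⟨z, hz, ez⟩ := hcentral (a := U') (b := U * V) (by rw [← hg.2 U U' rfl, e1, map_mul])
    obtain ⟨z', hz', ez'⟩ := hcentral (a := V') (b := U⁻¹ * V) (by rw [← hg.2 V V' rfl, e2, map_mul, map_inv])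
    rw [ez, ez', hcc _ _ _ _ hz hz'] at hC'
    have e : ((⁅U * V, U⁻¹ * V⁆ : P) : GL3) = C * C := by
      rw [commutatorElement_def]
      simp only [Subgroup.coe_mul, Subgroup.coe_inv, _root_.mul_inv_rev, inv_inv]
      have h1 : (V : GL3) * (U : GL3)⁻¹ * (V : GL3)⁻¹ = C * (U : GL3)⁻¹ := by
        have : (U : GL3) * V * (U : GL3)⁻¹ = C * V := by rw [hVU]; group
        rw [show (V : GL3) * (U : GL3)⁻¹ * (V : GL3)⁻¹ = (U : GL3)⁻¹ * ((U : GL3) * V * (U : GL3)⁻¹) * (V : GL3)⁻¹ by group,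
          this, ← mul_assoc, hCc]
        group
      calc (U : GL3) * V * ((U : GL3)⁻¹ * V) * ((V : GL3)⁻¹ * (U : GL3)⁻¹) * ((V : GL3)⁻¹ * U)
          = (U : GL3) * (((V : GL3) * (U : GL3)⁻¹ * (V : GL3)⁻¹) * ((V : GL3) * (U : GL3)⁻¹ * (V : GL3)⁻¹)) * U := by group
        _ = (U : GL3) * ((C * (U : GL3)⁻¹) * (C * (U : GL3)⁻¹)) * U := by rw [h1]
        _ = (U : GL3) * C * ((U : GL3)⁻¹ * C) := by group
        _ = C * U * (C * (U : GL3)⁻¹) := by rw [hCc U, hCc (U : GL3)⁻¹]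
        _ = C * (U * C) * (U : GL3)⁻¹ := by group
        _ = C * C := by rw [hCc U]; group
    rw [e] at hC'
    refine hne (Subtype.ext ?_)
    have hC1 : C = 1 := mul_eq_left.1 hC'
    show (U : GL3) * V = V * U
    rw [hVU, hC1, one_mul]

/-- An element of order five conjugate modulo scalars to its square. -/
theorem Cov.no_five (h : Cov P A φ) (h5 : (5 : K) ≠ 0) {a r y : A}
    (ha5 : a ^ 5 = 1) (ha1 : a ≠ 1) (hr : r * a * r⁻¹ = a⁻¹) {g : GL3} {θ : MulAut A} (hg : Induces φ g θ)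
    (hθ : θ a = y * a ^ 2 * y⁻¹) : False := by
  obtain ⟨X, hX⟩ := h.surj a
  obtain ⟨c, hc3, hc⟩ := h.mat_of_ker (x := X ^ 5) (by rw [map_pow, hX, ha5])
  obtain ⟨R, hR⟩ := h.surj r
  obtain ⟨Y, hY⟩ := h.surj y
  -- the lift of order five
  set Z := X ^ 6 with hZ
  have hZa : φ Z = a := by rw [map_pow, hX, pow_succ', ha5, mul_one]
  have hZ5 : Z ^ 5 = 1 := by
    apply Subtype.ext; apply Units.ext
    rw [hZ, ← pow_mul, mul_comm, pow_mul, SubgroupClass.coe_pow, Units.val_pow_eq_pow_val, hc, smul_pow,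
      show (6 : ℕ) = 3 * 2 from rfl, pow_mul c, hc3, one_pow, one_pow, one_smul]
    rfl
  have uniq : ∀ S T : P, φ S = φ T → S ^ 5 = 1 → T ^ 5 = 1 → S = T := by
    intro S T e hS hT
    have hz : φ (S * T⁻¹) = 1 := by rw [map_mul, map_inv, e, mul_inv_cancel]
    obtain ⟨d, hd3, hd⟩ := h.mat_of_ker hz
    have hzc : Commute (S * T⁻¹) T := Subtype.ext
      ((Subgroup.mem_center_iff.1 (scalars_le_center ((h.ker _).1 hz)) (T : GL3)).symm)
    have e5 : (S * T⁻¹) ^ 5 = 1 := by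
      have := hzc.mul_pow 5
      rw [inv_mul_cancel_right, hS, hT, mul_one] at this
      exact this.symm
    have d5 : d ^ 5 = 1 := by
      have e6 := congrArg (fun z : P => ((z : GL3) : M3) 0 0) e5
      simp only [SubgroupClass.coe_pow, Units.val_pow_eq_pow_val, hd, smul_pow, one_pow, Subgroup.coe_one,
        Units.val_one, Matrix.smul_apply, Matrix.one_apply_eq, smul_eq_mul, mul_one] at e6
      exact e6
    have d1 : d = 1 := by
      calc d = d ^ 5 * d := by rw [d5, one_mul]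
        _ = (d ^ 3) ^ 2 := by ring
        _ = 1 := by rw [hd3, one_pow]
    refine mul_inv_eq_one.1 (Subtype.ext (Units.ext ?_))
    rw [hd, d1, one_smul]
    rfl
  set M := ((Z : GL3) : M3) with hM
  have hM5 : M ^ 5 = 1 := by rw [hM, ← Units.val_pow_eq_pow_val, ← SubgroupClass.coe_pow, hZ5]; rfl
  have hconj : ∀ (b : GL3) (N : M3), ((b : M3) * N * ((b⁻¹ : GL3) : M3)).trace = N.trace := by
    intro b N
    rw [Matrix.trace_mul_comm, ← Matrix.mul_assoc, Units.inv_mul, Matrix.one_mul]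
  -- real
  have e1 : R * Z * R⁻¹ = Z⁻¹ := uniq _ _ (by simp only [map_mul, map_inv, hR, hZa, hr])
    (by rw [conj_pow, hZ5, mul_one, mul_inv_cancel]) (by rw [inv_pow, hZ5, inv_one])
  have ht : M.trace = minorSum M := by
    have e := congrArg (fun z : P => ((z : GL3) : M3).trace) e1
    simp only [Subgroup.coe_mul, Subgroup.coe_inv, Units.val_mul, hconj] at e
    rw [e]
    exact trace_inv_eq (Units.mul_inv _) (h.det Z)
  -- conjugate to the square
  have e2 : (⟨_, hg.1 Z Z.2⟩ : P) = Y * Z ^ 2 * Y⁻¹ := uniq _ _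
    (by rw [← hg.2 Z _ rfl, hZa, hθ]; simp only [map_mul, map_inv, map_pow, hY, hZa])
    (by
      apply Subtype.ext
      rw [SubgroupClass.coe_pow, Subgroup.coe_one]
      show (g * (Z : GL3) * g⁻¹) ^ 5 = 1
      rw [conj_pow, ← SubgroupClass.coe_pow, hZ5, Subgroup.coe_one, mul_one, mul_inv_cancel])
    (by rw [conj_pow, ← pow_mul, mul_comm 2 5, pow_mul, hZ5, one_pow, mul_one, mul_inv_cancel])
  have hsq : M.trace = (M ^ 2).trace := by
    have e := congrArg (fun z : P => ((z : GL3) : M3).trace) e2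
    simp only [Subgroup.coe_mul, Subgroup.coe_inv, Units.val_mul, hconj, SubgroupClass.coe_pow,
      Units.val_pow_eq_pow_val] at e
    exact e
  rw [trace_sq, ← ht] at hsq
  have h30 : M.trace * (M.trace - 3) = 0 := by linear_combination -hsq
  have hCH := cayley_three M
  rw [← ht, h.det Z, one_smul] at hCH
  refine ha1 ?_
  rw [← hZa]
  suffices hM1 : M = 1 by rw [show Z = 1 from Subtype.ext (Units.ext hM1), map_one]
  rcases mul_eq_zero.1 h30 with ht0 | ht3
  · rw [ht0, zero_smul, zero_smul, sub_zero, zero_add] at hCH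
    have e2 : M ^ 2 = 1 := by rw [← hM5, show (5 : ℕ) = 3 + 2 from rfl, pow_add, hCH, one_mul]
    rw [pow_succ, e2, one_mul] at hCH
    exact hCH
  · rw [sub_eq_zero.1 ht3] at hCH
    obtain ⟨N, hN⟩ : ∃ N, M = N + 1 := ⟨M - 1, by abel⟩
    rw [hN] at hCH hM5
    have hN3 : N ^ 3 = 0 := by
      have e : N ^ 3 = (N + 1) ^ 3 - (3 : K) • (N + 1) ^ 2 + (3 : K) • (N + 1) - 1 := by
        simp only [show (3 : K) = ((3 : ℕ) : K) from Nat.cast_ofNat.symm, Nat.cast_smul_eq_nsmul]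
        noncomm_ring
      rw [e, hCH]; abel
    have h1 : (5 : ℕ) • N + (10 : ℕ) • N ^ 2 = 0 := by
      have e : (N + 1) ^ 5 = 1 + ((5 : ℕ) • N + (10 : ℕ) • N ^ 2) +
          N ^ 3 * ((10 : ℕ) • (1 : M3) + (5 : ℕ) • N + N ^ 2) := by
        noncomm_ring
      rw [hM5, hN3, zero_mul, add_zero] at e
      exact left_eq_add.1 e
    have h1' : N ^ 2 = 0 := by
      have e := congrArg (· * N) h1
      simp only [add_mul, smul_mul_assoc, zero_mul, ← pow_two, ← pow_succ, hN3, smul_zero, add_zero,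
        ← Nat.cast_smul_eq_nsmul K] at e
      exact (smul_eq_zero.1 e).resolve_left (by exact_mod_cast h5)
    rw [h1', smul_zero, add_zero, ← Nat.cast_smul_eq_nsmul K] at h1
    rw [hN, (smul_eq_zero.1 h1).resolve_left (by exact_mod_cast h5), zero_add]

/-- Conjugation by a member of the socle. -/
theorem inner_of_conj [Fintype K] [Finite A] (h : Cov P A φ) (hP : Ctx P) {g : GL3} {θ : MulAut A} (hg : Induces φ g θ) {a : A}
    (ha : θ = MulAut.conj a) : ∃ x ∈ P, x⁻¹ * g ∈ scalars (Fin 3) K := by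
  obtain ⟨z, rfl⟩ := h.surj a
  refine ⟨z, z.2, centralizer_scalar hP fun x hx => ?_⟩
  have h1 := (induces_inner (φ := φ) z⁻¹).mul hg
  rw [ha, map_inv, map_inv, inv_mul_cancel, Subgroup.coe_inv] at h1
  let y : P := ⟨_, h1.1 x hx⟩
  have e : φ y = φ ⟨x, hx⟩ := (h1.2 ⟨x, hx⟩ y rfl).symm
  exact (h.ker (y * ⟨x, hx⟩⁻¹)).1 (by rw [map_mul, map_inv, e, mul_inv_cancel])

open AltFacts Equiv Equiv.Perm in
theorem conj_even {n : ℕ} (π : Perm (Fin n)) (hπ : Perm.sign π = 1) :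
    (MulAut.conjNormal π : MulAut ↥(alternatingGroup (Fin n))) = MulAut.conj ⟨π, mem_alternatingGroup.2 hπ⟩ := by
  apply MulEquiv.ext
  intro x
  exact Subtype.ext (by simp)

section alt

variable [Fintype K] {H : Type*} [Group H] {G : Subgroup (GL (Fin 3) K)} {π : G →* H}

open AltFacts Equiv Equiv.Perm in
/-- Odd permutations are not induced: degree six. -/
theorem even_six {ψ : P →* A6} (h : Cov P A6 ψ) (h2 : (2 : K) ≠ 0) (h3 : (3 : K) ≠ 0) {g : GL3}
    {σ : Perm (Fin 6)} (hg : Induces ψ g (MulAut.conjNormal σ)) : Perm.sign σ = 1 := by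
  rcases Int.units_eq_one_or (Perm.sign σ) with hs | hs
  · exact hs
  exfalso
  obtain ⟨z, hz⟩ := h.surj ⟨swap 0 1 * σ⁻¹, mem_alternatingGroup.2 (by
    rw [map_mul, map_inv, hs, sign_swap (by decide)]; decide)⟩
  have h1 := (induces_inner (φ := ψ) z).mul hg
  rw [hz] at h1
  have e : ∀ x : A6, ((MulAut.conj (⟨swap 0 1 * σ⁻¹, mem_alternatingGroup.2 (by
      rw [map_mul, map_inv, hs, sign_swap (by decide)]; decide)⟩ : A6) * MulAut.conjNormal σ : MulAut A6) x).1 =
      swap 0 1 * x.1 * (swap 0 1)⁻¹ := fun x => by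
    simp [mul_assoc]
  obtain ⟨a1, a2, a3, a4, a5, a6⟩ := basic6
  exact h.no_invert h2 h3 a1 a2 a3 a4 a5 a6 h1
    (Or.inl ⟨Subtype.ext ((e _).trans swap_facts6.1), Subtype.ext ((e _).trans swap_facts6.2)⟩)

open AltFacts Equiv Equiv.Perm in
/-- The socle `A₇` has no outer part. -/
theorem equiv_alt_seven (S : Sit H G π) (hP : Ctx P) (hPG : P ≤ G) (hinv : Inv G P) (h2 : (2 : K) ≠ 0)
    (h3 : (3 : K) ≠ 0) (e : (P ⧸ (scalars (Fin 3) K).subgroupOf P) ≃* alternatingGroup (Fin 7)) :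
    Nonempty (H ≃* alternatingGroup (Fin 7)) := by
  have h := Cov.of_equiv hP e
  obtain ⟨eH⟩ := equiv_of_inner S hPG fun g hg => by
    obtain ⟨θ, hθ⟩ := h.exists_induces (hinv g hg)
    obtain ⟨σ, rfl⟩ := Cfsg.Agent.Perm.AltAut.exists_perm_of_ne_six (by norm_num) (by norm_num) θ
    rcases Int.units_eq_one_or (Perm.sign σ) with hs | hs
    · exact inner_of_conj h hP hθ (conj_even σ hs)
    exfalso
    obtain ⟨z, hz⟩ := h.surj ⟨swap 0 1 * σ⁻¹, mem_alternatingGroup.2 (by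
      rw [map_mul, map_inv, hs, sign_swap (by decide)]; decide)⟩
    have h1 := (induces_inner (φ := e.toMonoidHom.comp (QuotientGroup.mk' _)) z).mul hθ
    rw [hz] at h1
    have e' : ∀ x : A7, ((MulAut.conj (⟨swap 0 1 * σ⁻¹, mem_alternatingGroup.2 (by
        rw [map_mul, map_inv, hs, sign_swap (by decide)]; decide)⟩ : A7) * MulAut.conjNormal σ : MulAut A7) x).1 =
        swap 0 1 * x.1 * (swap 0 1)⁻¹ := fun x => by
      simp [mul_assoc]
    obtain ⟨a1, a2, a3, a4, a5, a6⟩ := basic7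
    exact h.no_invert h2 h3 a1 a2 a3 a4 a5 a6 h1
      (Or.inl ⟨Subtype.ext ((e' _).trans swap_facts7.1), Subtype.ext ((e' _).trans swap_facts7.2)⟩)
  exact ⟨eH.trans e⟩

open AltFacts Equiv Equiv.Perm in
theorem conj_fixed_free (x f : A6) (hf : ∀ i, (f : Perm (Fin 6)) i ≠ i) :
    ∀ i, ((x * f * x⁻¹ : A6) : Perm (Fin 6)) i ≠ i := by
  intro i hi
  refine hf ((x : Perm (Fin 6))⁻¹ i) ?_
  have h' : (x : Perm (Fin 6)) ((f : Perm (Fin 6)) ((x : Perm (Fin 6))⁻¹ i)) = i := hi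
  conv_rhs => rw [← h']
  exact ((x : Perm (Fin 6)).symm_apply_apply _).symm

open AltFacts Equiv Equiv.Perm in
theorem double_free (θ : MulAut A6) (f : A6) (hf : IsThreeCycle (f : Perm (Fin 6)))
    (h : ¬ IsThreeCycle (θ f : Perm (Fin 6))) : ∀ i, (θ f : Perm (Fin 6)) i ≠ i := by
  obtain ⟨-, hd⟩ := (Cfsg.Agent.Perm.AltAut.image_three (by norm_num) θ f hf).resolve_left h
  have hs : (θ f : Perm (Fin 6)).support = Finset.univ := by
    apply Finset.eq_univ_of_card
    rw [← sum_cycleType, hd]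
    rfl
  exact fun i => mem_support.1 (hs ▸ Finset.mem_univ i)

open AltFacts Equiv Equiv.Perm in
/-- Outside the socle the first three-cycle goes to a double cycle. -/
theorem inner_or_double {ψ : P →* A6} (h : Cov P A6 ψ) (hP : Ctx P) (h2 : (2 : K) ≠ 0) (h3 : (3 : K) ≠ 0) {g : GL3}
    {θ : MulAut A6} (hθ : Induces ψ g θ) :
    (∃ x ∈ P, x⁻¹ * g ∈ scalars (Fin 3) K) ∨ ∀ i, (θ u6 : Perm (Fin 6)) i ≠ i := by
  by_cases hu : IsThreeCycle (θ u6 : Perm (Fin 6))
  · left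
    obtain ⟨σ, rfl⟩ := Cfsg.Agent.Perm.AltAut.exists_perm (by norm_num) θ fun f hf => by
      obtain ⟨c, hc⟩ := isConj_iff.1 (alternatingGroup.isThreeCycle_isConj (by simp) three6.1 hf)
      rw [← hc, map_mul, map_mul, map_inv, Subgroup.coe_mul, Subgroup.coe_mul, Subgroup.coe_inv, IsThreeCycle,
        cycleType_conj]
      exact hu
    exact inner_of_conj h hP hθ (conj_even σ (even_six h h2 h3 hθ))
  · exact Or.inr (double_free θ u6 three6.1 hu)

open AltFacts Equiv Equiv.Perm in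
/-- With five invertible, nothing exchanges the two classes of three-cycles. -/
theorem no_double {ψ : P →* A6} (h : Cov P A6 ψ) (h2 : (2 : K) ≠ 0) (h3 : (3 : K) ≠ 0) (h5 : (5 : K) ≠ 0) {g : GL3}
    {θ : MulAut A6} (hθ : Induces ψ g θ) (hd : ∀ i, (θ u6 : Perm (Fin 6)) i ≠ i) : False := by
  obtain ⟨a1, a2, a3, a4, a5, a6⟩ := basic6
  obtain ⟨b1, b2, b3, b4, b5⟩ := five6
  obtain ⟨x, hx⟩ := doubles_conj (θ u6) (by rw [← map_pow, a1, map_one]) hd
  obtain ⟨z, rfl⟩ := h.surj x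
  have h1 := (induces_inner (φ := ψ) z).mul hθ
  obtain ⟨θ', hθ'⟩ : ∃ θ', θ' = MulAut.conj (ψ z) * θ := ⟨_, rfl⟩
  rw [← hθ'] at h1
  have eu : θ' u6 = u6 * v6 := by rw [hθ', MulAut.mul_apply, MulAut.conj_apply, hx]
  have hv : ∀ i, (θ' v6 : Perm (Fin 6)) i ≠ i := by
    obtain ⟨c, hc⟩ := isConj_iff.1 (alternatingGroup.isThreeCycle_isConj (by simp) three6.1 three6.2)
    rw [← hc, map_mul, map_mul, map_inv, eu]
    refine conj_fixed_free _ _ ?_
    rw [← eu, hθ', MulAut.mul_apply, MulAut.conj_apply]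
    exact conj_fixed_free _ _ hd
  rcases doubles_commuting (θ' v6) hv (by rw [← map_pow, a2, map_one])
    (by rw [← eu, ← map_mul, ← map_mul, a3]) with e | e | e | e
  · rw [← eu] at e
    exact absurd (θ'.injective e) (by decide +kernel)
  · rw [← eu, ← map_inv] at e
    exact absurd (θ'.injective e) (by decide +kernel)
  · obtain ⟨y, hy⟩ := five_image (θ' g6) (by rw [← map_pow, b1, map_one])
      (by rw [← eu, ← map_mul, ← map_pow, b4, map_one]) (by rw [← e, ← map_mul, ← map_pow, b5, map_one])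
    exact h.no_five h5 b1 b2 b3 h1 hy.symm
  · exact h.no_invert h2 h3 a1 a2 a3 a4 a5 a6 h1 (Or.inr ⟨eu, e⟩)

open AltFacts in
/-- The socle `A₆` with five invertible has no outer part. -/
theorem equiv_alt_six (S : Sit H G π) (hP : Ctx P) (hPG : P ≤ G) (hinv : Inv G P) (h2 : (2 : K) ≠ 0)
    (h3 : (3 : K) ≠ 0) (h5 : (5 : K) ≠ 0)
    (e : (P ⧸ (scalars (Fin 3) K).subgroupOf P) ≃* alternatingGroup (Fin 6)) :
    Nonempty (H ≃* alternatingGroup (Fin 6)) := by
  have h := Cov.of_equiv hP e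
  obtain ⟨eH⟩ := equiv_of_inner S hPG fun g hg => by
    obtain ⟨θ, hθ⟩ := h.exists_induces (hinv g hg)
    exact (inner_or_double h hP h2 h3 hθ).resolve_right fun hd => no_double h h2 h3 h5 hθ hd
  exact ⟨eH.trans e⟩

open AltFacts Equiv Equiv.Perm in
/-- The socle `A₆`: index at most two. -/
theorem alt_six_or_double (S : Sit H G π) (hP : Ctx P) (hPG : P ≤ G) (hinv : Inv G P) (h2 : (2 : K) ≠ 0)
    (h3 : (3 : K) ≠ 0) (e : (P ⧸ (scalars (Fin 3) K).subgroupOf P) ≃* alternatingGroup (Fin 6)) :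
    Nonempty (H ≃* alternatingGroup (Fin 6)) ∨
      ∃ L : Subgroup H, L.index = 2 ∧ Nonempty (↥L ≃* alternatingGroup (Fin 6)) := by
  have h := Cov.of_equiv hP e
  obtain ⟨eL⟩ := image_equiv S hPG
  set L := (P.subgroupOf G).map π
  by_cases htop : L = ⊤
  · exact Or.inl ⟨(((MulEquiv.subgroupCongr htop).trans Subgroup.topEquiv).symm.trans eL).trans e⟩
  obtain ⟨a, ha⟩ : ∃ a, a ∉ L := by
    by_contra hno; push Not at hno; exact htop (eq_top_iff.2 fun x _ => hno x)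
  have key : ∀ a b : H, a ∉ L → b ∉ L → b⁻¹ * a ∈ L := by
    intro a b ha hb
    obtain ⟨g1, rfl⟩ := S.surj a
    obtain ⟨g2, rfl⟩ := S.surj b
    obtain ⟨θ1, hθ1⟩ := h.exists_induces (hinv g1 g1.2)
    obtain ⟨θ2, hθ2⟩ := h.exists_induces (hinv g2 g2.2)
    obtain ⟨θ, hθ⟩ := h.exists_induces (hinv ((g2⁻¹ * g1 : G) : GL3) (g2⁻¹ * g1).2)
    have d1 := (inner_or_double h hP h2 h3 hθ1).resolve_left fun e => ha ((image_mem_iff S hPG g1).2 e)
    have d2 := (inner_or_double h hP h2 h3 hθ2).resolve_left fun e => hb ((image_mem_iff S hPG g2).2 e)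
    rw [← map_inv, ← map_mul, image_mem_iff S hPG]
    refine (inner_or_double h hP h2 h3 hθ).resolve_right fun hd => ?_
    obtain ⟨x, hx⟩ := h.surj u6
    have eθ : θ2 (θ u6) = θ1 u6 := by
      rw [← hx, hθ.2 x ⟨_, hθ.1 x x.2⟩ rfl, hθ2.2 ⟨_, hθ.1 x x.2⟩ ⟨_, hθ1.1 x x.2⟩ (by
        show (g1 : GL3) * x * (g1 : GL3)⁻¹ = (g2 : GL3) * (((g2⁻¹ * g1 : G) : GL3) * x * ((g2⁻¹ * g1 : G) : GL3)⁻¹) * (g2 : GL3)⁻¹
        simp [mul_assoc]), hθ1.2 x ⟨_, hθ1.1 x x.2⟩ rfl]
    obtain ⟨c1, hc1⟩ := doubles_conj (θ1 u6) (by rw [← map_pow, basic6.1, map_one]) d1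
    obtain ⟨c2, hc2⟩ := doubles_conj (θ2 u6) (by rw [← map_pow, basic6.1, map_one]) d2
    have e3 : θ1 u6 = (c1⁻¹ * c2) * θ2 u6 * (c1⁻¹ * c2)⁻¹ := by
      have : θ1 u6 = c1⁻¹ * (c1 * θ1 u6 * c1⁻¹) * c1 := by group
      rw [this, hc1, ← hc2]; group
    obtain ⟨d, hd'⟩ := θ2.surjective (c1⁻¹ * c2)
    rw [← hd', ← map_inv θ2, ← map_mul, ← map_mul] at e3
    have e4 : θ u6 = d * u6 * d⁻¹ := θ2.injective (eθ.trans e3)
    have h3c : IsThreeCycle (θ u6 : Perm (Fin 6)) := by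
      rw [e4, Subgroup.coe_mul, Subgroup.coe_mul, Subgroup.coe_inv, IsThreeCycle, cycleType_conj]
      exact three6.1
    have hcard := h3c.card_support
    rw [show (θ u6 : Perm (Fin 6)).support = Finset.univ from
      Finset.eq_univ_of_forall fun i => mem_support.2 (hd i)] at hcard
    simp at hcard
  refine Or.inr ⟨L, Subgroup.index_eq_two_iff.2 ⟨a, fun b => ?_⟩, ⟨eL.trans e⟩⟩
  by_cases hb : b ∈ L
  · exact Or.inr ⟨hb, fun e => ha ((L.mul_mem_cancel_left hb).1 e)⟩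
  · refine Or.inl ⟨?_, hb⟩
    have h' := key a b⁻¹ ha fun e => hb (by simpa using L.inv_mem e)
    rwa [inv_inv] at h'

end alt

end Cfsg.Agent.PThree.Sub
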