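import Cfsg.Agent.Lib.Classical.PThree.Sub.Reduce
import Cfsg.Agent.Lib.Classical.PThree.Sub.Reducible
import Cfsg.Agent.Lib.Classical.GaloisDescent
import Cfsg.Agent.Lib.Classical.FormClassify
import Cfsg.Agent.Lib.Classical.UnitaryOrders

/-!
# The groups with socle `PSL₃` or `PSU₃`

If the socle preimage is all of `SL₃(K)` or all of `SU₃`, the group is the simple group or contains
it with index three.
-/

set_option autoImplicit false
set_option linter.unusedSectionVars false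
set_option linter.style.haveILetI false

namespace Cfsg.Agent.PThree.Sub

open Matrix Cfsg Cfsg.Geo
open scoped MatrixGroups

variable {K : Type*} [Field K] [Fintype K]

theorem exists_model {p β : ℕ} (hp : p.Prime) (hK : Fintype.card K = p ^ β) :
    ∃ (K0 : Type) (_ : Field K0) (i : Fintype K0), @Fintype.card K0 i = p ^ β ∧ Nonempty (K0 ≃+* K) := by
  haveI := Fact.mk hp
  have hβ : β ≠ 0 := by
    rintro rfl
    exact absurd (Fintype.one_lt_card (α := K)) (by simp [hK])
  letI : Fintype (GaloisField p β) := Fintype.ofFinite _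
  have hc : Fintype.card (GaloisField p β) = p ^ β := by
    rw [← Nat.card_eq_fintype_card, GaloisField.card p β hβ]
  exact ⟨GaloisField p β, inferInstance, inferInstance, hc,
    ⟨FiniteField.ringEquivOfCardEq (by rw [hc, hK])⟩⟩

/-- A non-cube of `K` which is a cube in `F` forces a cubic extension. -/
theorem cubic_degree {F : Type*} [Field F] [Fintype F] (ι : K →+* F) {k : ℕ}
    (hF : Fintype.card F = Fintype.card K ^ k) {d : Kˣ}
    (hnc : d ∉ (powMonoidHom 3 : Kˣ →* Kˣ).range) {l : F} (hl : l ^ 3 = ι (d : K)) :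
    3 ∣ Fintype.card K - 1 ∧ 3 ∣ k := by
  classical
  have hq1 : 1 < Fintype.card K := Fintype.one_lt_card
  have hcard : Nat.card Kˣ = Fintype.card K - 1 := by rw [Nat.card_units, Nat.card_eq_fintype_card]
  have h3 : 3 ∣ Fintype.card K - 1 := by
    by_contra h
    refine hnc ?_
    have hcop : (Nat.card Kˣ).Coprime 3 := by
      rw [hcard, Nat.coprime_comm]; exact Nat.prime_three.coprime_iff_not_dvd.2 h
    exact ⟨(powCoprime hcop).symm d, (powCoprime hcop).apply_symm_apply d⟩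
  refine ⟨h3, ?_⟩
  obtain ⟨m, hm⟩ := h3
  set ω := l ^ (Fintype.card K - 1) with hω
  have hω1 : ω ≠ 1 := by
    intro h
    refine hnc ?_
    have hd : d ^ m = 1 := by
      refine Units.ext (ι.injective ?_)
      rw [Units.val_pow_eq_pow_val, map_pow, ← hl, ← pow_mul, ← hm, Units.val_one, map_one, ← hω, h]
    obtain ⟨g, hg⟩ := IsCyclic.exists_generator (α := Kˣ)
    obtain ⟨i, rfl⟩ := (mem_powers_iff_mem_zpowers.2 (hg d) : d ∈ Submonoid.powers g)
    rw [← pow_mul, ← orderOf_dvd_iff_pow_eq_one, orderOf_eq_card_of_forall_mem_zpowers hg, hcard, hm] at hd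
    have hm0 : 0 < m := by omega
    obtain ⟨j, hj⟩ := Nat.dvd_of_mul_dvd_mul_right hm0 hd
    exact ⟨g ^ j, by show (g ^ j) ^ 3 = g ^ i; rw [← pow_mul, hj, mul_comm]⟩
  have hl0 : l ≠ 0 := by
    intro h
    rw [h, zero_pow three_ne_zero] at hl
    exact d.ne_zero (ι.injective (by rw [map_zero]; exact hl.symm))
  have hω3 : ω ^ 3 = 1 := by
    rw [hω, ← pow_mul, mul_comm, pow_mul, hl, ← map_pow,
      FiniteField.pow_card_sub_one_eq_one (d : K) d.ne_zero, map_one]
  have hωq : ω ^ Fintype.card K = ω := by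
    rw [show Fintype.card K = 3 * m + 1 by omega, pow_succ, pow_mul, hω3, one_pow, one_mul]
  have hlq : l ^ Fintype.card K = l * ω := by
    rw [hω, ← pow_succ', Nat.sub_add_cancel hq1.le]
  have hiter : ∀ j, l ^ Fintype.card K ^ j = l * ω ^ j := by
    intro j
    induction j with
    | zero => simp
    | succ j ih => rw [pow_succ, pow_mul, ih, mul_pow, ← pow_mul ω, mul_comm j, pow_mul, hωq, hlq, mul_assoc, ← pow_succ']
  have hk : ω ^ k = 1 := by
    have h := FiniteField.pow_card l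
    rw [hF, hiter] at h
    exact mul_left_cancel₀ hl0 (by rw [mul_one]; exact h)
  have := orderOf_dvd_of_pow_eq_one hk
  rwa [orderOf_eq_prime hω3 hω1] at this

variable {H : Type*} [Group H] [Finite H] {G : Subgroup (GL (Fin 3) K)} {π : G →* H}

/-- The subgroup of elements whose determinant is a cube has index one or three. -/
theorem index_cases (S : Sit H G π) (L : Subgroup H)
    (hL : ∀ y : G, π y ∈ L ↔
      Matrix.GeneralLinearGroup.det (y : GL (Fin 3) K) ∈ (powMonoidHom 3 : Kˣ →* Kˣ).range) :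
    L = ⊤ ∨ (L.index = 3 ∧ ∃ y : G,
      Matrix.GeneralLinearGroup.det (y : GL (Fin 3) K) ∉ (powMonoidHom 3 : Kˣ →* Kˣ).range) := by
  classical
  let δ : G →* Kˣ ⧸ (powMonoidHom 3 : Kˣ →* Kˣ).range :=
    (QuotientGroup.mk' _).comp (Matrix.GeneralLinearGroup.det.comp G.subtype)
  have hker : L.comap π = δ.ker := by
    ext y
    rw [Subgroup.mem_comap, hL, MonoidHom.mem_ker]
    exact (QuotientGroup.eq_one_iff _).symm
  have hidx : L.index ∣ 3 := by
    rw [← Subgroup.index_comap_of_surjective L S.surj, hker, Subgroup.index_ker]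
    refine (Subgroup.card_subgroup_dvd_card _).trans ?_
    rw [← Subgroup.index_eq_card, IsCyclic.index_powMonoidHom_range]
    exact Nat.gcd_dvd_right _ _
  rcases (Nat.dvd_prime Nat.prime_three).1 hidx with h | h
  · exact Or.inl (Subgroup.index_eq_one.1 h)
  · refine Or.inr ⟨h, ?_⟩
    by_contra hno
    push Not at hno
    have : L = ⊤ := by
      rw [eq_top_iff]
      intro x _
      obtain ⟨y, rfl⟩ := S.surj x
      exact (hL y).2 (hno y)
    rw [this, Subgroup.index_top] at h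
    norm_num at h

/-- A parametrisation of a subgroup of `H` by a group `X` mapped to `G`. -/
theorem equiv_of_param (S : Sit H G π) {X : Type*} [Group X] (θ : X →* GL (Fin 3) K) (Q : Subgroup (GL (Fin 3) K))
    (hθ : θ.range = Q) (hQ : Q ≤ G) (hc : ∀ x, θ x ∈ scalars (Fin 3) K ↔ x ∈ Subgroup.center X) :
    Nonempty (↥((Q.subgroupOf G).map π) ≃* (X ⧸ Subgroup.center X)) := by
  classical
  have hmem : ∀ x, θ x ∈ G := fun x => hQ (hθ ▸ ⟨x, rfl⟩)
  let ψ : X →* H := π.comp (θ.codRestrict G hmem)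
  have hker : ψ.ker = Subgroup.center X := by
    ext x
    rw [MonoidHom.mem_ker]
    exact (S.ker _).trans (hc x)
  have hrange : ψ.range = (Q.subgroupOf G).map π := by
    ext h
    constructor
    · rintro ⟨x, rfl⟩
      exact ⟨θ.codRestrict G hmem x, Subgroup.mem_subgroupOf.2 (show θ x ∈ Q from hθ ▸ ⟨x, rfl⟩), rfl⟩
    · rintro ⟨y, hy, rfl⟩
      obtain ⟨x, hx⟩ : (y : GL (Fin 3) K) ∈ θ.range := hθ ▸ hy
      exact ⟨x, congrArg π (Subtype.ext hx : θ.codRestrict G hmem x = y)⟩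
  exact ⟨((QuotientGroup.quotientMulEquivOfEq hker.symm).trans
    ((QuotientGroup.quotientKerEquivRange ψ).trans (MulEquiv.subgroupCongr hrange))).symm⟩

/-- A scalar multiple. -/
theorem mem_image_of_smul (S : Sit H G π) {Q : Subgroup (GL (Fin 3) K)} (hQ : Q ≤ G) (y : G)
    {z : GL (Fin 3) K} (hz : z ∈ scalars (Fin 3) K) (hy : (y : GL (Fin 3) K) * z ∈ Q) :
    π y ∈ (Q.subgroupOf G).map π := by
  refine ⟨⟨_, hQ hy⟩, Subgroup.mem_subgroupOf.2 hy, ?_⟩
  have e : (⟨_, hQ hy⟩ : G) = y * ⟨z, S.scal hz⟩ := Subtype.ext rfl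
  rw [e, map_mul, (S.ker ⟨z, S.scal hz⟩).2 hz, mul_one]

theorem det_cube_of_image (S : Sit H G π) {Q : Subgroup (GL (Fin 3) K)}
    (hsl : Q ≤ specialLinear (Fin 3) K) (y : G) (hy : π y ∈ (Q.subgroupOf G).map π) :
    Matrix.GeneralLinearGroup.det (y : GL (Fin 3) K) ∈ (powMonoidHom 3 : Kˣ →* Kˣ).range := by
  obtain ⟨x, hx, e⟩ := hy
  have hz : ((x⁻¹ * y : G) : GL (Fin 3) K) ∈ scalars (Fin 3) K :=
    (S.ker _).1 (by rw [map_mul, map_inv, e, inv_mul_cancel])
  obtain ⟨c, hc⟩ := (mem_scalars_iff _).1 hz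
  refine ⟨c, ?_⟩
  have e1 : Matrix.GeneralLinearGroup.det ((x⁻¹ * y : G) : GL (Fin 3) K) = c ^ 3 := Units.ext (by
    rw [Matrix.GeneralLinearGroup.val_det_apply, hc, Matrix.det_smul, Matrix.det_one, Fintype.card_fin, mul_one,
      Units.val_pow_eq_pow_val])
  have hx1 : Matrix.GeneralLinearGroup.det (x : GL (Fin 3) K) = 1 := hsl (Subgroup.mem_subgroupOf.1 hx)
  rw [Subgroup.coe_mul, Subgroup.coe_inv, map_mul, map_inv, hx1, inv_one, one_mul] at e1
  exact e1.symm

/-- A scalar matrix. -/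
def scalarGL (c : Kˣ) : GL (Fin 3) K where
  val := (c : K) • (1 : Matrix (Fin 3) (Fin 3) K)
  inv := ((c⁻¹ : Kˣ) : K) • (1 : Matrix (Fin 3) (Fin 3) K)
  val_inv := by rw [Matrix.smul_mul, Matrix.mul_smul, Matrix.one_mul, smul_smul, Units.mul_inv, one_smul]
  inv_val := by rw [Matrix.smul_mul, Matrix.mul_smul, Matrix.one_mul, smul_smul, Units.inv_mul, one_smul]

theorem scalarGL_mem (c : Kˣ) : scalarGL c ∈ scalars (Fin 3) K :=
  (mem_scalars_iff _).2 ⟨c, rfl⟩

theorem det_scalarGL (c : Kˣ) : Matrix.GeneralLinearGroup.det (scalarGL c) = c ^ 3 := Units.ext (by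
  rw [Matrix.GeneralLinearGroup.val_det_apply]
  show ((c : K) • (1 : Matrix (Fin 3) (Fin 3) K)).det = _
  rw [Matrix.det_smul, Matrix.det_one, Fintype.card_fin, mul_one, Units.val_pow_eq_pow_val])

/-- The socle is `PSL₃(K)`. -/
theorem target_of_sl {F : Type*} [Field F] [Fintype F] (ι : K →+* F) {p β k : ℕ} (hp : p.Prime)
    (hK : Fintype.card K = p ^ β) (hF : Fintype.card F = p ^ (β * k)) (S : Sit H G π)
    (hsl : specialLinear (Fin 3) K ≤ G)
    (hdet : ∀ g ∈ G, ∃ l : F, l ^ 3 * ι (Matrix.GeneralLinearGroup.det g : K) = 1) :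
    Target p (β * k) H := by
  classical
  obtain ⟨K0, _, _, hK0, ⟨e⟩⟩ := exists_model hp hK
  let θ : Matrix.SpecialLinearGroup (Fin 3) K0 →* GL (Fin 3) K :=
    Matrix.SpecialLinearGroup.toGL.comp (Matrix.SpecialLinearGroup.map (n := Fin 3) (e : K0 →+* K))
  have hval : ∀ x i j, (θ x : Matrix (Fin 3) (Fin 3) K) i j = e (x.1 i j) := fun x i j => rfl
  have hrange : θ.range = specialLinear (Fin 3) K := by
    ext z
    constructor
    · rintro ⟨x, rfl⟩
      exact Units.ext (Matrix.SpecialLinearGroup.map (n := Fin 3) (e : K0 →+* K) x).2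
    · intro hz
      have hz1 : (z : Matrix (Fin 3) (Fin 3) K).det = 1 := congrArg Units.val (hz : Matrix.GeneralLinearGroup.det z = 1)
      refine ⟨⟨(z : Matrix (Fin 3) (Fin 3) K).map e.symm, ?_⟩, Units.ext ?_⟩
      · rw [show (z : Matrix (Fin 3) (Fin 3) K).map e.symm = RingHom.mapMatrix (e.symm : K →+* K0) (z : Matrix (Fin 3) (Fin 3) K) from rfl,
          ← RingHom.map_det, hz1, map_one]
      · ext i j
        show e (((z : Matrix (Fin 3) (Fin 3) K).map e.symm) i j) = _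
        exact e.apply_symm_apply _
  have hc : ∀ x, θ x ∈ scalars (Fin 3) K ↔ x ∈ Subgroup.center (Matrix.SpecialLinearGroup (Fin 3) K0) := by
    intro x
    rw [Matrix.SpecialLinearGroup.mem_center_iff]
    constructor
    · intro h
      obtain ⟨c, hc⟩ := (mem_scalars_iff _).1 h
      have hx : x.1 = Matrix.scalar (Fin 3) (e.symm (c : K)) := by
        ext i j
        apply e.injective
        rw [← hval, hc, Matrix.scalar_apply, Matrix.diagonal_apply]
        by_cases hij : i = j <;> simp [hij]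
      refine ⟨_, ?_, hx.symm⟩
      have hd := x.2
      rw [hx, Matrix.scalar_apply, Matrix.det_diagonal, Finset.prod_const, Finset.card_univ] at hd
      exact hd
    · rintro ⟨r, -, hr⟩
      refine Classical.mem_scalars_of_eq (c := e r) ?_
      ext i j
      rw [hval, ← hr, Matrix.scalar_apply, Matrix.diagonal_apply]
      by_cases hij : i = j <;> simp [hij]
  obtain ⟨eL⟩ := equiv_of_param S θ _ hrange hsl hc
  set L := ((specialLinear (Fin 3) K).subgroupOf G).map π
  have hL : ∀ y : G, π y ∈ L ↔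
      Matrix.GeneralLinearGroup.det (y : GL (Fin 3) K) ∈ (powMonoidHom 3 : Kˣ →* Kˣ).range := by
    refine fun y => ⟨det_cube_of_image S le_rfl y, ?_⟩
    rintro ⟨c, hc⟩
    refine mem_image_of_smul S hsl y (scalarGL_mem c⁻¹) ?_
    show Matrix.GeneralLinearGroup.det _ = 1
    rw [map_mul, det_scalarGL, ← hc]
    show c ^ 3 * c⁻¹ ^ 3 = 1
    rw [← mul_pow, mul_inv_cancel, one_pow]
  rcases index_cases S L hL with h | ⟨h3, y, hy⟩
  · exact Or.inl ⟨K0, inferInstance, inferInstance, β, hK0, dvd_mul_right β k,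
      ⟨((MulEquiv.subgroupCongr h).trans Subgroup.topEquiv).symm.trans eL⟩⟩
  · obtain ⟨l, hl⟩ := hdet y y.2
    have hl' : l⁻¹ ^ 3 = ι (Matrix.GeneralLinearGroup.det (y : GL (Fin 3) K) : K) := by
      rw [inv_pow]; exact inv_eq_of_mul_eq_one_right hl
    obtain ⟨h31, h3k⟩ := cubic_degree ι (k := k) (by rw [hF, hK, pow_mul]) hy hl'
    refine Or.inr (Or.inr (Or.inl ⟨K0, inferInstance, inferInstance, β, hK0, hK ▸ h31, ?_, L, h3, ⟨eL⟩⟩))
    rw [mul_comm 3 β]
    exact Nat.mul_dvd_mul_left β h3k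

/-- The socle is `PSU₃`. -/
theorem target_of_su {F : Type*} [Field F] [Fintype F] (ι : K →+* F) {p a k : ℕ} (hp : p.Prime)
    (hK : Fintype.card K = p ^ a) (hF : Fintype.card F = p ^ (a * k)) (S : Sit H G π)
    {P : Subgroup (GL (Fin 3) K)} (hP : Ctx P) (hPG : P ≤ G) (hinv : Inv G P)
    {s : K ≃+* K} {f : (Fin 3 → K) → (Fin 3 → K) → K} (hf : IsUnitaryForm s f)
    (hfix : FixesForm (matrixSet P) f)
    (hfull : ∀ g ∈ specialLinear (Fin 3) K, FixesForm {(g : Matrix (Fin 3) (Fin 3) K)} f → g ∈ P)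
    (hdet : ∀ g ∈ G, ∃ l : F, l ^ 3 * ι (Matrix.GeneralLinearGroup.det g : K) = 1) :
    Target p (a * k) H := by
  classical
  obtain ⟨q, hs⟩ := Classical.exists_isUSigma_of_involutive hf.involutive hf.ne_refl
  obtain ⟨β, -, hqβ⟩ := (Nat.dvd_prime_pow hp).1 (hK ▸ hs.card ▸ dvd_pow_self q two_ne_zero)
  subst hqβ
  have ha : a = 2 * β := Nat.pow_right_injective hp.two_le (by
    show p ^ a = p ^ (2 * β)
    rw [← hK, hs.card, ← pow_mul, mul_comm])
  subst ha
  obtain ⟨K0, _, _, hK0, ⟨e⟩⟩ := exists_model hp hK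
  obtain ⟨-, -, s0, -, -, -, -, hs0⟩ := Classical.exists_usigma (q := p ^ β) (F := K0)
    (by rw [hK0, ← pow_mul, mul_comm])
  have hsemi := Classical.semiForm_of_unitary hf
  -- diagonalise
  set M := gramMatrix f with hM
  have hMdet : M.det ≠ 0 := Classical.det_gram_ne_zero s hsemi hf.nondegenerate
  obtain ⟨A, hA⟩ := hs.hermitian_congr hMdet (fun i j => hf.herm _ _)
  have hAf : ∀ u v, f ((A : Matrix (Fin 3) (Fin 3) K) *ᵥ u) ((A : Matrix (Fin 3) (Fin 3) K) *ᵥ v) =
      hermForm 3 K (p ^ β) u v := by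
    intro u v
    have h1 := Classical.semiForm_apply s (hsemi.comp_mulVec (A : Matrix (Fin 3) (Fin 3) K)) u v
    rw [Classical.gram_comp s hsemi, ← hM, hA, Matrix.one_mulVec] at h1
    rw [h1, hs.hermForm_eq]
    rfl
  -- the parametrisation
  have he : ∀ x : K0, (e x) ^ p ^ β = e (x ^ p ^ β) := fun x => (map_pow e x _).symm
  let raw : Cfsg.SU 3 K0 (p ^ β) →* GL (Fin 3) K :=
    (Matrix.SpecialLinearGroup.toGL.comp (Matrix.SpecialLinearGroup.map (n := Fin 3) (e : K0 →+* K))).comp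
      (Cfsg.SU 3 K0 (p ^ β)).subtype
  let θ : Cfsg.SU 3 K0 (p ^ β) →* GL (Fin 3) K := (MulAut.conj A).toMonoidHom.comp raw
  have hraw : ∀ x i j, (raw x : Matrix (Fin 3) (Fin 3) K) i j = e (x.1.1 i j) := fun x i j => rfl
  have hherm : ∀ (X : Matrix (Fin 3) (Fin 3) K0) (u v : Fin 3 → K0),
      hermForm 3 K (p ^ β) (X.map e *ᵥ (e ∘ u)) (X.map e *ᵥ (e ∘ v)) = e (hermForm 3 K0 (p ^ β) (X *ᵥ u) (X *ᵥ v)) := by
    intro X u v
    have hmv : ∀ w : Fin 3 → K0, X.map e *ᵥ (e ∘ w) = e ∘ (X *ᵥ w) := fun w =>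
      funext fun i => (RingHom.map_mulVec (e : K0 →+* K) X w i).symm
    rw [hmv, hmv]
    simp [hermForm, map_sum, map_mul, map_pow]
  have hrange : θ.range = P := by
    ext z
    constructor
    · rintro ⟨x, rfl⟩
      refine hfull _ ?_ ?_
      · show Matrix.GeneralLinearGroup.det (A * raw x * A⁻¹) = 1
        rw [map_mul, map_mul, map_inv, mul_comm, inv_mul_cancel_left]
        exact Units.ext (Matrix.SpecialLinearGroup.map (n := Fin 3) (e : K0 →+* K) x.1).2
      · rintro _ rfl u v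
        have eA : ∀ w : Fin 3 → K, (A : Matrix (Fin 3) (Fin 3) K) *ᵥ (((A⁻¹ : GL (Fin 3) K) : Matrix (Fin 3) (Fin 3) K) *ᵥ w) = w :=
          fun w => by rw [Matrix.mulVec_mulVec, Units.mul_inv, Matrix.one_mulVec]
        have hu : ∀ w : Fin 3 → K, w = e ∘ (e.symm ∘ w) := fun w => funext fun i => (e.apply_symm_apply _).symm
        show f (((A * raw x * A⁻¹ : GL (Fin 3) K) : Matrix (Fin 3) (Fin 3) K) *ᵥ u)
          (((A * raw x * A⁻¹ : GL (Fin 3) K) : Matrix (Fin 3) (Fin 3) K) *ᵥ v) = _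
        simp only [Units.val_mul, ← Matrix.mulVec_mulVec]
        rw [hAf]
        conv_rhs => rw [← eA u, ← eA v, hAf]
        generalize ((A⁻¹ : GL (Fin 3) K) : Matrix (Fin 3) (Fin 3) K) *ᵥ u = u0
        generalize ((A⁻¹ : GL (Fin 3) K) : Matrix (Fin 3) (Fin 3) K) *ᵥ v = v0
        obtain ⟨u1, rfl⟩ : ∃ u1 : Fin 3 → K0, u0 = e ∘ u1 := ⟨_, hu u0⟩
        obtain ⟨v1, rfl⟩ : ∃ v1 : Fin 3 → K0, v0 = e ∘ v1 := ⟨_, hu v0⟩
        rw [show (raw x : Matrix (Fin 3) (Fin 3) K) = x.1.1.map e from rfl, hherm,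
          show hermForm 3 K0 (p ^ β) (x.1.1 *ᵥ u1) (x.1.1 *ᵥ v1) = hermForm 3 K0 (p ^ β) u1 v1 from x.2 u1 v1]
        simp [hermForm, map_sum, map_mul, map_pow]
    · intro hz
      set z' : GL (Fin 3) K := A⁻¹ * z * A
      have hz1 : (z' : Matrix (Fin 3) (Fin 3) K).det = 1 := by
        refine congrArg Units.val (show Matrix.GeneralLinearGroup.det z' = 1 from ?_)
        show Matrix.GeneralLinearGroup.det (A⁻¹ * z * A) = 1
        rw [map_mul, map_mul, map_inv, show Matrix.GeneralLinearGroup.det z = 1 from hP.le_sl hz, mul_one, inv_mul_cancel]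
      let X : Matrix.SpecialLinearGroup (Fin 3) K0 := ⟨(z' : Matrix (Fin 3) (Fin 3) K).map e.symm, by
        rw [show (z' : Matrix (Fin 3) (Fin 3) K).map e.symm = RingHom.mapMatrix (e.symm : K →+* K0) (z' : Matrix (Fin 3) (Fin 3) K) from rfl,
          ← RingHom.map_det, hz1, map_one]⟩
      have hXe : X.1.map e = (z' : Matrix (Fin 3) (Fin 3) K) := by ext i j; simp [X]
      have hX : X ∈ Cfsg.SU 3 K0 (p ^ β) := by
        intro u v
        apply e.injective
        show e (hermForm 3 K0 (p ^ β) (X.1 *ᵥ u) (X.1 *ᵥ v)) = _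
        rw [← hherm, hXe]
        show hermForm 3 K (p ^ β) (((A⁻¹ * z * A : GL (Fin 3) K) : Matrix (Fin 3) (Fin 3) K) *ᵥ (e ∘ u))
          (((A⁻¹ * z * A : GL (Fin 3) K) : Matrix (Fin 3) (Fin 3) K) *ᵥ (e ∘ v)) = _
        rw [← hAf]
        simp only [Matrix.mulVec_mulVec, ← Units.val_mul, ← mul_assoc, mul_inv_cancel, one_mul]
        simp only [Units.val_mul, ← Matrix.mulVec_mulVec]
        rw [hfix _ (Classical.coe_mem_matrixSet hz), hAf]
        simp [hermForm, map_sum, map_mul, map_pow]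
      refine ⟨⟨X, hX⟩, ?_⟩
      have : raw ⟨X, hX⟩ = z' := Units.ext hXe
      show A * raw ⟨X, hX⟩ * A⁻¹ = z
      rw [this]
      show A * (A⁻¹ * z * A) * A⁻¹ = z
      group
  have hc : ∀ x, θ x ∈ scalars (Fin 3) K ↔ x ∈ Subgroup.center ↥(Cfsg.SU 3 K0 (p ^ β)) := by
    intro x
    rw [show θ x = MulAut.conj A (raw x) from rfl, conj_mem_scalars]
    constructor
    · intro h
      obtain ⟨c, hc⟩ := (mem_scalars_iff _).1 h
      have hx : x.1.1 = (e.symm (c : K)) • (1 : Matrix (Fin 3) (Fin 3) K0) := by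
        ext i j
        apply e.injective
        rw [← hraw, hc]
        by_cases hij : i = j <;> simp [hij]
      refine Subgroup.mem_center_iff.2 fun y => Subtype.ext (Subtype.ext ?_)
      show y.1.1 * x.1.1 = x.1.1 * y.1.1
      rw [hx, Matrix.smul_mul, Matrix.mul_smul, Matrix.one_mul, Matrix.mul_one]
    · intro h
      obtain ⟨c, hc⟩ := Classical.UCount.scalar_of_commute hs0 (n := 3) (by norm_num) (M := x.1.1) fun y =>
        congrArg (fun z : ↥(Cfsg.SU 3 K0 (p ^ β)) => z.1.1) (Subgroup.mem_center_iff.1 h y)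
      refine Classical.mem_scalars_of_eq (c := e c) ?_
      ext i j
      rw [hraw, hc]
      by_cases hij : i = j <;> simp [hij]
  obtain ⟨eL⟩ := equiv_of_param S θ _ hrange hPG hc
  set L := (P.subgroupOf G).map π
  -- similitudes
  have hsim : ∀ y : G, ∃ c : Kˣ, s c = c ∧
      (∀ u v, f (((y : GL (Fin 3) K) : Matrix (Fin 3) (Fin 3) K) *ᵥ u) (((y : GL (Fin 3) K) : Matrix (Fin 3) (Fin 3) K) *ᵥ v) = c * f u v) ∧
      (Matrix.GeneralLinearGroup.det (y : GL (Fin 3) K) : K) *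
        s (Matrix.GeneralLinearGroup.det (y : GL (Fin 3) K) : K) = (c : K) ^ 3 := by
    intro y
    obtain ⟨c, hc⟩ := Classical.mem_similarityGroup_of_normalizes s hsemi hf.nondegenerate hP.absIrred hfix
      (fun x hx => hinv y y.2 x hx)
    refine ⟨c, ?_, hc, ?_⟩
    · obtain ⟨u, hu⟩ := (hf.nondegenerate (Pi.single 0 1) (by simp)).1
      have h1 := hc (Pi.single 0 1) u
      by_cases h0 : f (Pi.single 0 1) u = 0
      · refine absurd ?_ hu
        rw [hf.herm, h0, map_zero]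
      rw [hf.herm, hc u, map_mul, ← hf.herm] at h1
      exact mul_right_cancel₀ h0 h1
    · set Y := ((y : GL (Fin 3) K) : Matrix (Fin 3) (Fin 3) K)
      have hg : Yᵀ * M * Y.map s = (c : K) • M := by
        rw [hM, ← Classical.gram_comp s hsemi]
        ext i j
        simp only [gramMatrix, Matrix.smul_apply, smul_eq_mul]
        exact hc _ _
      have h := congrArg Matrix.det hg
      rw [Matrix.det_mul, Matrix.det_mul, Matrix.det_transpose, Matrix.det_smul, Fintype.card_fin,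
        show Y.map s = RingHom.mapMatrix (s : K →+* K) Y from rfl, ← RingHom.map_det] at h
      refine mul_right_cancel₀ hMdet ?_
      rw [← h, Matrix.GeneralLinearGroup.val_det_apply]
      show Y.det * s Y.det * M.det = Y.det * M.det * s Y.det
      ring
  have hL : ∀ y : G, π y ∈ L ↔
      Matrix.GeneralLinearGroup.det (y : GL (Fin 3) K) ∈ (powMonoidHom 3 : Kˣ →* Kˣ).range := by
    refine fun y => ⟨det_cube_of_image S hP.le_sl y, ?_⟩
    rintro ⟨d, hd⟩
    obtain ⟨c, hcs, hcf, hcd⟩ := hsim y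
    obtain ⟨ω, hωdef⟩ : ∃ ω : K, ω = (c : K) / ((d : K) * s d) := ⟨_, rfl⟩
    have hd0 : (d : K) * s d ≠ 0 := mul_ne_zero d.ne_zero (fun h => d.ne_zero (s.injective (by rw [h, map_zero])))
    have hωm : (d : K) * s d * ω = c := by rw [hωdef, mul_div_cancel₀ _ hd0]
    have hω3 : ω ^ 3 = 1 := by
      have hd' : (Matrix.GeneralLinearGroup.det (y : GL (Fin 3) K) : K) = (d : K) ^ 3 := by
        rw [← hd]; rfl
      rw [hd', map_pow] at hcd
      rw [hωdef, div_pow, div_eq_one_iff_eq (pow_ne_zero _ hd0), ← hcd]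
      ring
    have hωs : s ω = ω := by rw [hωdef, map_div₀, map_mul, hf.involutive, hcs, mul_comm (s _)]
    have hω0 : ω ≠ 0 := fun h => by rw [h, zero_pow three_ne_zero] at hω3; exact zero_ne_one hω3
    let b : Kˣ := d * Units.mk0 (ω ^ 2) (pow_ne_zero _ hω0)
    have hb : (b : K) * s b = c := by
      show (d : K) * ω ^ 2 * s ((d : K) * ω ^ 2) = c
      rw [map_mul, map_pow, hωs, ← hωm]
      linear_combination ((d : K) * s d * ω) * hω3
    refine mem_image_of_smul S hPG y (scalarGL_mem b⁻¹) (hfull _ ?_ ?_)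
    · show Matrix.GeneralLinearGroup.det _ = 1
      have e3 : b ^ 3 = d ^ 3 := Units.ext (by
        show ((d : K) * ω ^ 2) ^ 3 = (d : K) ^ 3
        linear_combination ((d : K) ^ 3 * (ω ^ 3 + 1)) * hω3)
      rw [map_mul, det_scalarGL, inv_pow, ← hd, e3]
      exact mul_inv_cancel _
    · rintro _ rfl u v
      have hv : ∀ w, (((y : GL (Fin 3) K) * scalarGL b⁻¹ : GL (Fin 3) K) : Matrix (Fin 3) (Fin 3) K) *ᵥ w =
          ((b⁻¹ : Kˣ) : K) • (((y : GL (Fin 3) K) : Matrix (Fin 3) (Fin 3) K) *ᵥ w) := fun w => by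
        rw [Units.val_mul, show ((scalarGL b⁻¹ : GL (Fin 3) K) : Matrix (Fin 3) (Fin 3) K) = ((b⁻¹ : Kˣ) : K) • 1 from rfl,
          Matrix.mul_smul, Matrix.mul_one, Matrix.smul_mulVec]
      rw [hv, hv, hsemi.smul_left, hsemi.smul_right, hcf, Units.val_inv_eq_inv_val, map_inv₀, ← hb]
      field_simp [b.ne_zero, (fun h => b.ne_zero (s.injective (by rw [h, map_zero])) : s (b : K) ≠ 0)]
  rcases index_cases S L hL with h | ⟨h3, y, hy⟩
  · refine Or.inr (Or.inl ⟨K0, inferInstance, inferInstance, β, hK0, dvd_mul_right _ _, ?_⟩)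
    exact ⟨((MulEquiv.subgroupCongr h).trans Subgroup.topEquiv).symm.trans eL⟩
  · obtain ⟨l, hl⟩ := hdet y y.2
    have hl' : l⁻¹ ^ 3 = ι (Matrix.GeneralLinearGroup.det (y : GL (Fin 3) K) : K) := by
      rw [inv_pow]; exact inv_eq_of_mul_eq_one_right hl
    obtain ⟨h31, h3k⟩ := cubic_degree ι (k := k) (by rw [hF, hK, ← pow_mul]) hy hl'
    have hplus : 3 ∣ p ^ β + 1 := by
      by_contra hno
      refine hy ?_
      set q := p ^ β with hq
      have hq2 := hs.two_le
      rw [hs.card] at h31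
      have hfac : q ^ 2 - 1 = (q + 1) * (q - 1) := by
        rw [pow_two, ← mul_self_tsub_mul_self q 1, one_mul]
      rw [hfac] at h31
      obtain ⟨m, hm⟩ := (Nat.prime_three.dvd_mul.1 h31).resolve_left hno
      obtain ⟨c, hcs, -, hcd⟩ := hsim y
      set d := Matrix.GeneralLinearGroup.det (y : GL (Fin 3) K)
      have hd1 : d ^ ((q + 1) * m) = 1 := by
        refine Units.ext ?_
        rw [pow_mul, Units.val_pow_eq_pow_val, Units.val_pow_eq_pow_val, pow_succ', ← hs.apply_eq, hcd, ← pow_mul,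
          ← hm, Units.val_one]
        refine mul_left_cancel₀ c.ne_zero ?_
        rw [← pow_succ', show q - 1 + 1 = q by omega, ← hs.apply_eq, hcs, mul_one]
      obtain ⟨g, hg⟩ := IsCyclic.exists_generator (α := Kˣ)
      obtain ⟨i, hi⟩ := (mem_powers_iff_mem_zpowers.2 (hg d) : d ∈ Submonoid.powers g)
      simp only at hi
      rw [← hi, ← pow_mul, ← orderOf_dvd_iff_pow_eq_one, orderOf_eq_card_of_forall_mem_zpowers hg,
        Nat.card_units, Nat.card_eq_fintype_card, hs.card, hfac, hm,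
        show (q + 1) * (3 * m) = 3 * ((q + 1) * m) by ring] at hd1
      obtain ⟨j, hj⟩ := Nat.dvd_of_mul_dvd_mul_right (Nat.mul_pos (by omega) (by omega)) hd1
      exact ⟨g ^ j, by show (g ^ j) ^ 3 = d; rw [← pow_mul, ← hi, hj, mul_comm]⟩
    refine Or.inr (Or.inr (Or.inr (Or.inl ⟨K0, inferInstance, inferInstance, β, hK0, hplus, ?_, L, h3, ⟨eL⟩⟩)))
    rw [show 6 * β = 2 * β * 3 by ring]
    exact Nat.mul_dvd_mul_left _ h3k

end Cfsg.Agent.PThree.Sub
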