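import Cfsg.Agent.Lib.Classical.PThree.Sub.Reduce
import Cfsg.Agent.Lib.Classical.PThree.Sub.Reducible
import Cfsg.Agent.Lib.Classical.Subfield

/-!
# Passing to the smallest field of realisation of the socle
-/

set_option autoImplicit false
set_option linter.unusedSectionVars false
set_option linter.style.haveILetI false

namespace Cfsg.Agent.PThree.Sub

open Matrix Cfsg Cfsg.Geo
open scoped MatrixGroups

variable {F : Type*} [Field F] [Fintype F] {H : Type*} [Group H] [Finite H] [Nontrivial H]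

local notation "GL3" => GL (Fin 3) F

theorem absIrr_conj {P : Subgroup GL3} (hP : ActsAbsolutelyIrreducibly (matrixSet P)) (B : GL3) :
    ActsAbsolutelyIrreducibly (matrixSet (P.map (MulAut.conj B).toMonoidHom)) := by
  constructor
  · intro W hW
    let W0 : Submodule F (Fin 3 → F) := W.comap (Matrix.toLin' (B : Matrix (Fin 3) (Fin 3) F))
    have h0 : W0 = ⊥ ∨ W0 = ⊤ := by
      refine hP.1 W0 ?_
      rintro _ ⟨x, hx, rfl⟩
      rw [Classical.map_toLin'_le]
      intro w hw
      simp only [W0, Submodule.mem_comap, Matrix.toLin'_apply] at hw ⊢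
      have h := Classical.map_toLin'_le.1 (hW _ ⟨_, ⟨x, hx, rfl⟩, rfl⟩) _ hw
      rw [Matrix.mulVec_mulVec] at h ⊢
      rwa [show (((MulAut.conj B).toMonoidHom x : GL3) : Matrix (Fin 3) (Fin 3) F) * (B : Matrix (Fin 3) (Fin 3) F) =
        (B : Matrix (Fin 3) (Fin 3) F) * (x : Matrix (Fin 3) (Fin 3) F) by
          show ((B * x * B⁻¹ : GL3) : Matrix (Fin 3) (Fin 3) F) * _ = _
          rw [← Units.val_mul, ← Units.val_mul, inv_mul_cancel_right]] at h
    have hsurj : Function.Surjective (Matrix.toLin' (B : Matrix (Fin 3) (Fin 3) F)) := fun v =>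
      ⟨((B⁻¹ : GL3) : Matrix (Fin 3) (Fin 3) F) *ᵥ v, by
        rw [Matrix.toLin'_apply, Classical.gl_mulVec_inv_cancel]⟩
    rcases h0 with h0 | h0
    · left
      rw [← Submodule.map_comap_eq_of_surjective hsurj W]
      show W0.map _ = ⊥
      rw [h0, Submodule.map_bot]
    · right
      rw [← Submodule.map_comap_eq_of_surjective hsurj W]
      show W0.map _ = ⊤
      rw [h0, Submodule.map_top, LinearMap.range_eq_top.2 hsurj]
  · intro M hM
    obtain ⟨c, hc⟩ := hP.2 (((B⁻¹ : GL3) : Matrix (Fin 3) (Fin 3) F) * M * (B : Matrix (Fin 3) (Fin 3) F)) (by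
      rintro _ ⟨x, hx, rfl⟩
      have h : M * ((B * x * B⁻¹ : GL3) : Matrix (Fin 3) (Fin 3) F) =
          ((B * x * B⁻¹ : GL3) : Matrix (Fin 3) (Fin 3) F) * M := hM _ ⟨_, ⟨x, hx, rfl⟩, rfl⟩
      have h1 := congrArg (fun z => ((B⁻¹ : GL3) : Matrix (Fin 3) (Fin 3) F) * z * (B : Matrix (Fin 3) (Fin 3) F)) h
      simpa [Units.val_mul, Matrix.mul_assoc] using h1)
    refine ⟨c, ?_⟩
    have h1 := congrArg (fun z => (B : Matrix (Fin 3) (Fin 3) F) * z * ((B⁻¹ : GL3) : Matrix (Fin 3) (Fin 3) F)) hc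
    simpa [Matrix.mul_assoc] using h1

/-- The descent. -/
theorem exists_descent {G : Subgroup GL3} {π : G →* H} (S : Sit H G π)
    {P : Subgroup GL3} (hPG : P ≤ G) (hPi : Inv G P) (hP : Ctx P)
    (hdet : ∀ g ∈ G, ∃ l : F, l ^ 3 * (Matrix.GeneralLinearGroup.det g : F) = 1) :
    ∃ (F1 : Subfield F) (G1 P1 : Subgroup (GL (Fin 3) F1)) (π1 : G1 →* H),
      Sit H G1 π1 ∧ Ctx P1 ∧ P1 ≤ G1 ∧ Inv G1 P1 ∧
      (∀ τ : F1 ≃+* F1, Twist P1 τ → τ = RingEquiv.refl F1) ∧
      (∀ g ∈ G1, ∃ l : F, l ^ 3 * ((Matrix.GeneralLinearGroup.det g : F1) : F) = 1) := by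
  classical
  haveI : Finite (Subfield F) := Finite.of_injective _ SetLike.coe_injective
  obtain ⟨F1, hreal, hmin⟩ := Set.Finite.exists_minimalFor (fun K : Subfield F => Nat.card K)
    {K : Subfield F | RealisableOver K (matrixSet P)} (Set.toFinite _)
    ⟨⊤, 1, fun s _ i j => Subfield.mem_top _⟩
  obtain ⟨B, hB⟩ := hreal
  haveI : Fintype F1 := Fintype.ofFinite _
  let ι : GL (Fin 3) F1 →* GL3 := Matrix.GeneralLinearGroup.map (F1.subtype : F1 →+* F)
  have hι : Function.Injective ι := fun a b h => by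
    apply Units.ext
    ext i j
    exact congrArg (fun z : GL3 => (z : Matrix (Fin 3) (Fin 3) F) i j) h
  have hentry : ∀ x ∈ P, ∀ i j, ((B * x * B⁻¹ : GL3) : Matrix (Fin 3) (Fin 3) F) i j ∈ F1 :=
    fun x hx i j => by simpa using hB _ (Classical.coe_mem_matrixSet hx) i j
  set φ : GL3 ≃* GL3 := MulAut.conj B
  set G' := G.map φ.toMonoidHom
  obtain ⟨π', S'⟩ : ∃ π' : G' →* H, Sit H G' π' := ⟨_, S.map φ (conj_mem_scalars B)⟩
  set P' := P.map φ.toMonoidHom
  have hP'range : P' ≤ ι.range := by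
    rintro _ ⟨x, hx, rfl⟩
    exact Classical.mem_range_map_subfield (hentry x hx)
  let G1 : Subgroup (GL (Fin 3) F1) := G'.comap ι
  let P1 : Subgroup (GL (Fin 3) F1) := P'.comap ι
  have hP1map : P1.map ι = P' := by rw [Subgroup.map_comap_eq, inf_eq_right.2 hP'range]
  let r : G1 →* G' := (ι.comp G1.subtype).codRestrict G' fun x => x.2
  let π1 : G1 →* H := π'.comp r
  have hscι : ∀ m : GL (Fin 3) F1, ι m ∈ scalars (Fin 3) F ↔ m ∈ scalars (Fin 3) F1 := by
    intro m
    constructor
    · intro h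
      obtain ⟨c, hc⟩ := (mem_scalars_iff _).1 h
      have e : ∀ i j, ((m : Matrix (Fin 3) (Fin 3) F1) i j : F) = ((c : F) • (1 : Matrix (Fin 3) (Fin 3) F)) i j :=
        fun i j => congrFun (congrFun hc i) j
      refine Classical.mem_scalars_of_eq (c := (m : Matrix (Fin 3) (Fin 3) F1) 0 0) ?_
      ext i j
      rw [e i j]
      by_cases hij : i = j
      · subst hij; simp [e 0 0]
      · simp [hij]
    · intro h
      obtain ⟨c, hc⟩ := (mem_scalars_iff _).1 h
      refine Classical.mem_scalars_of_eq (c := ((c : F1) : F)) ?_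
      ext i j
      show ((m : Matrix (Fin 3) (Fin 3) F1) i j : F) = _
      rw [hc]
      by_cases hij : i = j
      · subst hij; simp
      · simp [hij]
  have S1 : Sit H G1 π1 := by
    refine ⟨fun m hm => S'.scal ((hscι m).2 hm), fun y => ?_, fun x => ?_⟩
    · obtain ⟨⟨_, g, hg, rfl⟩, rfl⟩ := S'.surj y
      have h : φ g ∈ ι.range ⊔ scalars (Fin 3) F :=
        Classical.mem_range_sup_scalars_of_normalizes hP.absIrred hentry (fun x hx => hPi g hg x hx)
      haveI : (scalars (Fin 3) F).Normal := ⟨fun x hx y => by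
        rwa [Subgroup.mem_center_iff.1 (scalars_le_center hx) y, mul_inv_cancel_right]⟩
      obtain ⟨_, ⟨m, rfl⟩, s, hs, e⟩ := Subgroup.mem_sup_of_normal_right.1 h
      have hm : ι m ∈ G' := by
        rw [eq_mul_inv_of_mul_eq e]
        exact G'.mul_mem ⟨g, hg, rfl⟩ (G'.inv_mem (S'.scal hs))
      refine ⟨⟨m, hm⟩, ?_⟩
      show π' ⟨ι m, hm⟩ = _
      have e' : (⟨φ g, g, hg, rfl⟩ : G') = ⟨ι m, hm⟩ * ⟨s, S'.scal hs⟩ := Subtype.ext e.symm
      show _ = π' ⟨φ g, g, hg, rfl⟩
      have h1 : π' ⟨s, S'.scal hs⟩ = 1 := (S'.ker ⟨s, S'.scal hs⟩).2 hs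
      exact ((congrArg π' e').trans ((map_mul π' ⟨ι m, hm⟩ ⟨s, S'.scal hs⟩).trans
        ((congrArg (π' ⟨ι m, hm⟩ * ·) h1).trans (mul_one _)))).symm
    · show π' (r x) = 1 ↔ _
      exact (S'.ker (r x)).trans (hscι _)
  have habs : ActsAbsolutelyIrreducibly (matrixSet P') := absIrr_conj hP.absIrred B
  have habs1 : ActsAbsolutelyIrreducibly (matrixSet P1) := by
    constructor
    · intro W hW
      let W' : Submodule F (Fin 3 → F) := Submodule.span F ((fun w : Fin 3 → F1 => fun i => ((w i : F1) : F)) '' W)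
      have hW' : W' = ⊥ ∨ W' = ⊤ := by
        refine habs.1 W' ?_
        rintro _ ⟨x, hx, rfl⟩
        obtain ⟨m, rfl⟩ := hP'range hx
        rw [Submodule.map_span, Submodule.span_le]
        rintro _ ⟨_, ⟨w, hw, rfl⟩, rfl⟩
        refine Submodule.subset_span ⟨(m : Matrix (Fin 3) (Fin 3) F1) *ᵥ w,
          Classical.map_toLin'_le.1 (hW _ ⟨m, hx, rfl⟩) w hw, ?_⟩
        funext i
        simp [Matrix.toLin'_apply, Matrix.mulVec, dotProduct, ι]
      rcases hW' with h | h
      · left
        rw [eq_bot_iff]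
        intro w hw
        have : (fun i => ((w i : F1) : F)) ∈ W' := Submodule.subset_span ⟨w, hw, rfl⟩
        rw [h, Submodule.mem_bot] at this
        rw [Submodule.mem_bot]
        funext i
        exact Subtype.ext (congrFun this i)
      · right
        apply Submodule.eq_top_of_finrank_eq
        have hb := Module.finBasis F1 W
        have hle : Module.finrank F W' ≤ Module.finrank F1 W := by
          let T : Finset (Fin 3 → F) := Finset.univ.image fun k => fun i => (((hb k : Fin 3 → F1) i : F1) : F)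
          have hsub : W' ≤ Submodule.span F (T : Set (Fin 3 → F)) := by
            refine Submodule.span_le.2 ?_
            rintro _ ⟨w, hw, rfl⟩
            have e := congrArg (fun z : W => fun i => (((z : Fin 3 → F1) i : F1) : F)) (hb.sum_repr ⟨w, hw⟩)
            dsimp only at e
            show (fun i => ((w i : F1) : F)) ∈ _
            rw [← e]
            have hexp : ∀ a : Fin (Module.finrank F1 W) → F1,
                (fun i => (((((∑ k, a k • hb k : W)) : Fin 3 → F1) i : F1) : F)) =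
                ∑ k, ((a k : F1) : F) • fun i => (((hb k : Fin 3 → F1) i : F1) : F) := by
              intro a
              funext i
              simp [Finset.sum_apply]
            rw [hexp]
            exact Submodule.sum_mem _ fun k _ => Submodule.smul_mem _ _ (Submodule.subset_span (by simp [T]))
          exact (Submodule.finrank_mono hsub).trans ((finrank_span_finset_le_card T).trans
            (Finset.card_image_le.trans (by simp)))
        rw [h, finrank_top, Module.finrank_fintype_fun_eq_card] at hle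
        refine le_antisymm (Submodule.finrank_le W) ?_
        rw [Module.finrank_fintype_fun_eq_card]
        exact hle
    · intro M hM
      obtain ⟨c, hc⟩ := habs.2 (M.map fun z : F1 => (z : F)) (by
        rintro _ ⟨x, hx, rfl⟩
        obtain ⟨m, rfl⟩ := hP'range hx
        have h := congrArg (fun z : Matrix (Fin 3) (Fin 3) F1 => z.map (F1.subtype : F1 →+* F)) (hM _ ⟨m, hx, rfl⟩)
        simp only [Matrix.map_mul] at h
        exact h)
      refine ⟨M 0 0, ?_⟩
      ext i j
      have e : ∀ i j, ((M i j : F1) : F) = (c • (1 : Matrix (Fin 3) (Fin 3) F)) i j := fun i j =>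
        congrFun (congrFun hc i) j
      rw [e i j]
      by_cases hij : i = j
      · subst hij; simp [e 0 0]
      · simp [hij]
  have hdetι : ∀ m : GL (Fin 3) F1, (Matrix.GeneralLinearGroup.det (ι m) : F) =
      ((Matrix.GeneralLinearGroup.det m : F1) : F) := fun m =>
    (RingHom.map_det (F1.subtype : F1 →+* F) (m : Matrix (Fin 3) (Fin 3) F1)).symm
  have hdetφ : ∀ g : GL3, Matrix.GeneralLinearGroup.det (φ g) = Matrix.GeneralLinearGroup.det g := fun g => by
    show Matrix.GeneralLinearGroup.det (B * g * B⁻¹) = _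
    rw [map_mul, map_mul, map_inv, mul_comm, inv_mul_cancel_left]
  let eP : P1 ≃* P :=
    (P1.equivMapOfInjective ι hι).trans ((MulEquiv.subgroupCongr hP1map).trans (φ.subgroupMap P).symm)
  have heP : ∀ x : P1, φ (eP x : GL3) = ι x := by
    intro x
    exact congrArg Subtype.val ((φ.subgroupMap P).apply_symm_apply
      ((MulEquiv.subgroupCongr hP1map) (P1.equivMapOfInjective ι hι x)))
  have hsc_eP : ((scalars (Fin 3) F1).subgroupOf P1).map eP.toMonoidHom = (scalars (Fin 3) F).subgroupOf P := by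
    ext y
    obtain ⟨x, rfl⟩ := eP.surjective y
    rw [Subgroup.mem_subgroupOf, ← conj_mem_scalars B]
    show _ ↔ φ (eP x : GL3) ∈ _
    rw [heP, hscι]
    constructor
    · rintro ⟨x', hx', e⟩
      rwa [eP.injective e] at hx'
    · exact fun h => ⟨x, h, rfl⟩
  let eQ := QuotientGroup.congr _ _ eP hsc_eP
  have hP1 : Ctx P1 := by
    refine ⟨fun x hx => ?_, ?_, ?_, fun hc => ?_, habs1⟩
    · show Matrix.GeneralLinearGroup.det x = 1
      obtain ⟨y, hy, e⟩ := (hx : ι x ∈ P')
      apply Units.ext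
      apply Subtype.ext
      rw [← hdetι x, ← e]
      show (Matrix.GeneralLinearGroup.det (φ y) : F) = _
      rw [hdetφ, show Matrix.GeneralLinearGroup.det y = 1 from hP.le_sl hy]
      simp
    · apply Subgroup.map_injective hι
      rw [Subgroup.map_commutator, hP1map, show P' = P.map φ.toMonoidHom from rfl, ← Subgroup.map_commutator,
        hP.perfect]
    · haveI := hP.simple
      haveI : Nontrivial (P1 ⧸ (scalars (Fin 3) F1).subgroupOf P1) := eQ.toEquiv.nontrivial
      exact IsSimpleGroup.isSimpleGroup_of_surjective eQ.symm.toMonoidHom eQ.symm.surjective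
    · refine hP.nonabelian ⟨⟨fun a b => ?_⟩⟩
      have h := congrArg eQ (hc.is_comm.comm (eQ.symm a) (eQ.symm b))
      simpa using h
  refine ⟨F1, G1, P1, π1, S1, hP1, fun x hx => ?_, fun g hg x hx => ?_, fun τ hτ => ?_, fun g hg => ?_⟩
  · obtain ⟨y, hy, e⟩ := (hx : ι x ∈ P')
    exact ⟨y, hPG hy, e⟩
  · obtain ⟨a, ha, ea⟩ := (hg : ι g ∈ G')
    obtain ⟨y, hy, ey⟩ := (hx : ι x ∈ P')
    refine ⟨a * y * a⁻¹, hPi a ha y hy, ?_⟩
    rw [map_mul, map_mul, map_inv, map_mul, map_mul, map_inv, ea, ey]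
  · by_contra hne
    obtain ⟨F0, hF0, B1, hB1⟩ := hP1.realisable_of_twist hne hτ
    have hlt : Nat.card (F0.map (F1.subtype : F1 →+* F)) < Nat.card F1 := by
      have hlt' : (F0 : Set F1) ⊂ Set.univ := ⟨Set.subset_univ _, fun h => hF0 (eq_top_iff.2 fun z _ => h (Set.mem_univ z))⟩
      calc Nat.card (F0.map (F1.subtype : F1 →+* F)) = (((F1.subtype : F1 →+* F)) '' (F0 : Set F1)).ncard := rfl
        _ = (F0 : Set F1).ncard := Set.ncard_image_of_injective _ (F1.subtype : F1 →+* F).injective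
        _ < (Set.univ : Set F1).ncard := Set.ncard_lt_ncard hlt' (Set.toFinite _)
        _ = Nat.card F1 := Set.ncard_univ _
    refine absurd (hmin (j := F0.map (F1.subtype : F1 →+* F)) ?_ hlt.le) (not_le.2 hlt)
    refine ⟨ι B1 * B, ?_⟩
    rintro _ ⟨x, hx, rfl⟩ i j
    obtain ⟨m, hm⟩ := hP'range ⟨x, hx, rfl⟩
    have hmP : m ∈ P1 := by
      show ι m ∈ P'
      rw [hm]
      exact ⟨x, hx, rfl⟩
    refine ⟨((B1 : Matrix (Fin 3) (Fin 3) F1) * (m : Matrix (Fin 3) (Fin 3) F1) *
      ((B1⁻¹ : GL (Fin 3) F1) : Matrix (Fin 3) (Fin 3) F1)) i j, hB1 _ (Classical.coe_mem_matrixSet hmP) i j, ?_⟩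
    have e : ι (B1 * m * B1⁻¹) = (ι B1 * B) * x * (ι B1 * B)⁻¹ := by
      rw [map_mul, map_mul, map_inv, hm]
      show ι B1 * (B * x * B⁻¹) * (ι B1)⁻¹ = _
      group
    have e' := congrArg (fun z : GL3 => (z : Matrix (Fin 3) (Fin 3) F) i j) e
    simp only [Units.val_mul] at e'
    refine Eq.trans ?_ e'
    rfl
  · obtain ⟨a, ha, ea⟩ := (hg : ι g ∈ G')
    obtain ⟨l, hl⟩ := hdet a ha
    refine ⟨l, ?_⟩
    rw [← hdetι g, ← ea]
    show l ^ 3 * (Matrix.GeneralLinearGroup.det (φ a) : F) = 1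
    rw [hdetφ]
    exact hl

end Cfsg.Agent.PThree.Sub
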