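import Cfsg.Agent.Lib.Classical.PThree.Sub.Target
import Cfsg.Agent.Lib.Classical.Dickson.Solvable
import Cfsg.Agent.Lib.Classical.Dickson.PGLBase
import Cfsg.Agent.Lib.Solv.Partition.Main

/-!
# Groups without solvable normal subgroups inside `PGL₂(q)`, `q` odd
-/

set_option autoImplicit false
set_option linter.unusedSectionVars false
set_option linter.style.haveILetI false

namespace Cfsg.Agent.PThree.Sub

open Cfsg Cfsg.Geo Cfsg.Agent.Classical Cfsg.Agent.Small
open scoped MatrixGroups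

theorem a5_psl_five :
    Nonempty (alternatingGroup (Fin 5) ≃* Matrix.ProjectiveSpecialLinearGroup (Fin 2) (ZMod 5)) := by
  haveI : Fact (Nat.Prime 5) := ⟨by norm_num⟩
  have hc := Dickson.card_psl (ZMod 5)
  rw [ZMod.card, show Nat.gcd 2 (5 - 1) = 2 from rfl] at hc
  haveI : IsSimpleGroup (Matrix.ProjectiveSpecialLinearGroup (Fin 2) (ZMod 5)) :=
    Matrix.ProjectiveSpecialLinearGroup.rank_two_simple (by rw [Nat.card_zmod]; norm_num)
  obtain ⟨e⟩ := Cfsg.Agent.Lie.simple_sixty (G := Matrix.ProjectiveSpecialLinearGroup (Fin 2) (ZMod 5))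
    (by norm_num at hc ⊢; omega)
  exact ⟨e.symm⟩

theorem card_alt_five : Nat.card (alternatingGroup (Fin 5)) = 60 := by
  rw [nat_card_alternatingGroup]; norm_num [Nat.factorial]

/-- The non-solvable subgroups of `PSL₂(p^α)`, with a model field in `Type`. -/
theorem nonsolvable_psl {F : Type*} [Field F] [Fintype F] {p α : ℕ} (hp : p.Prime) (hodd : p ≠ 2)
    (hF : Fintype.card F = p ^ α) (hα : α ≠ 0) (S : Subgroup (Matrix.ProjectiveSpecialLinearGroup (Fin 2) F))
    (hns : ¬ Group.IsSolvable S) :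
    (Nonempty (S ≃* alternatingGroup (Fin 5)) ∧ Nat.card S = 60) ∨
    ∃ (K : Type) (_ : Field K) (_ : Fintype K) (β : ℕ), Fintype.card K = p ^ β ∧ β ∣ α ∧ 4 ≤ p ^ β ∧
      ((Nonempty (S ≃* Matrix.ProjGenLinGroup (Fin 2) K) ∧ Nat.card S = p ^ β * ((p ^ β) ^ 2 - 1)) ∨
       (Nonempty (S ≃* Matrix.ProjectiveSpecialLinearGroup (Fin 2) K) ∧ 2 * Nat.card S = p ^ β * ((p ^ β) ^ 2 - 1))) := by
  rcases Dickson.cases_on S with ⟨k, -, ⟨hc, -⟩ | ⟨-, ⟨e⟩⟩⟩ | ⟨g, hg, -⟩ | ⟨-, ⟨f⟩⟩ | ⟨-, ⟨f⟩⟩ | ⟨-, ⟨f⟩⟩ |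
    ⟨K, m, hm, hKm, hK⟩
  · refine absurd ?_ hns
    haveI := hc
    letI := IsCyclic.commGroup (α := S)
    infer_instance
  · refine absurd ?_ hns
    haveI := Dickson.dihedral_solvable k
    exact Group.isSolvable_of_isSolvable_injective (f := e.toMonoidHom) e.injective
  · refine absurd ?_ hns
    haveI := Dickson.borelP_solvable F
    exact Group.isSolvable_of_isSolvable_injective
      (f := (Subgroup.inclusion hg).comp ((PSL2.conjP g).subgroupMap S).toMonoidHom)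
      ((Subgroup.inclusion_injective hg).comp ((PSL2.conjP g).subgroupMap S).injective)
  · exact absurd (Dickson.solvable_of_two_three (a := 2) (b := 1) (by
      rw [Nat.card_congr f.toEquiv, nat_card_alternatingGroup]; norm_num [Nat.factorial])) hns
  · exact absurd (Dickson.solvable_of_two_three (a := 3) (b := 1) (by
      rw [Nat.card_congr f.toEquiv, Nat.card_perm, Nat.card_fin]; norm_num [Nat.factorial])) hns
  · exact Or.inl ⟨⟨f⟩, by rw [Nat.card_congr f.toEquiv, card_alt_five]⟩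
  · right
    rw [hF] at hKm
    obtain ⟨β, -, hβ⟩ := (Nat.dvd_prime_pow hp).1 (hKm ▸ dvd_pow_self _ (by omega : m ≠ 0) : Nat.card K ∣ p ^ α)
    have hβα : β * m = α := Nat.pow_right_injective hp.two_le (show p ^ (β * m) = p ^ α by rw [pow_mul, ← hβ, hKm])
    have hβ0 : β ≠ 0 := fun h => hα (by rw [← hβα, h, zero_mul])
    have h4 : 4 ≤ p ^ β := by
      by_contra h4
      have h3 : p ^ β = 3 := by
        have h1 : p ≤ p ^ β := Nat.le_self_pow hβ0 p
        have h2 := hp.two_le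
        omega
      rcases hK with ⟨-, hcard⟩ | ⟨-, -, hcard⟩
      · exact hns (Dickson.solvable_of_two_three (a := 3) (b := 1) (by rw [hcard, hβ, h3]; norm_num))
      · exact hns (Dickson.solvable_of_two_three (a := 2) (b := 1) (by rw [hβ, h3] at hcard; norm_num at hcard ⊢; omega))
    haveI : Fact p.Prime := ⟨hp⟩
    letI : Fintype (GaloisField p β) := Fintype.ofFinite _
    haveI : Fintype K := Fintype.ofFinite K
    have hc : Fintype.card (GaloisField p β) = p ^ β := by rw [← Nat.card_eq_fintype_card, GaloisField.card p β hβ0]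
    have e : K ≃+* GaloisField p β := FiniteField.ringEquivOfCardEq (by rw [hc, ← Nat.card_eq_fintype_card, hβ])
    refine ⟨GaloisField p β, inferInstance, inferInstance, β, hc, Dvd.intro _ hβα, h4, ?_⟩
    rcases hK with ⟨⟨f⟩, hcard⟩ | ⟨-, ⟨f⟩, hcard⟩
    · exact Or.inl ⟨⟨f.trans (Dickson.pglCongr e)⟩, by rw [hcard, hβ]⟩
    · exact Or.inr ⟨⟨f.trans (Dickson.pslCongr e)⟩, by rw [hcard, hβ]⟩

theorem arith_pow {p β γ : ℕ} (hp : 3 ≤ p) {c : ℕ} (hc : c = 1 ∨ c = 2 ∨ c = 4)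
    (h : p ^ γ * ((p ^ γ) ^ 2 - 1) = c * (p ^ β * ((p ^ β) ^ 2 - 1))) (h4 : 4 ≤ p ^ β) : c = 1 ∧ γ = β := by
  have h1 : 1 ≤ p ^ γ := Nat.one_le_pow _ _ (by omega)
  rcases lt_trichotomy γ β with hlt | rfl | hgt
  · exfalso
    have h2 : p ^ γ < p ^ β := Nat.pow_lt_pow_right (by omega) hlt
    have h3 : p ^ γ * ((p ^ γ) ^ 2 - 1) < p ^ β * ((p ^ β) ^ 2 - 1) := by
      refine Nat.mul_lt_mul_of_lt_of_le h2 (Nat.sub_le_sub_right (Nat.pow_le_pow_left h2.le 2) 1) ?_
      have : 16 ≤ (p ^ β) ^ 2 := by nlinarith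
      omega
    rcases hc with rfl | rfl | rfl <;> omega
  · refine ⟨?_, rfl⟩
    have h2 : 0 < p ^ γ * ((p ^ γ) ^ 2 - 1) := by
      have : 16 ≤ (p ^ γ) ^ 2 := by nlinarith
      exact Nat.mul_pos (by omega) (by omega)
    rcases hc with rfl | rfl | rfl <;> omega
  · exfalso
    have h2 : 3 * p ^ β ≤ p ^ γ := by
      calc 3 * p ^ β ≤ p * p ^ β := Nat.mul_le_mul_right _ hp
        _ = p ^ (β + 1) := (pow_succ' p β).symm
        _ ≤ p ^ γ := Nat.pow_le_pow_right (by omega) hgt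
    have h3 : 3 * p ^ β * ((3 * p ^ β) ^ 2 - 1) ≤ p ^ γ * ((p ^ γ) ^ 2 - 1) :=
      Nat.mul_le_mul h2 (Nat.sub_le_sub_right (Nat.pow_le_pow_left h2 2) 1)
    set K := p ^ β
    set L := p ^ γ * ((p ^ γ) ^ 2 - 1)
    have h5 : 1 ≤ K ^ 2 := Nat.one_le_pow _ _ (by omega)
    have h6 : 1 ≤ (3 * K) ^ 2 := Nat.one_le_pow _ _ (by omega)
    have h7 : c * (K * (K ^ 2 - 1)) ≤ 4 * (K * (K ^ 2 - 1)) := Nat.mul_le_mul_right _ (by omega)
    zify [h5, h6] at h3 h7 h
    nlinarith

theorem arith_240 {p γ : ℕ} (h : p ^ γ * ((p ^ γ) ^ 2 - 1) = 240) : False := by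
  set L := p ^ γ
  rcases le_or_gt 7 L with h7 | h7
  · have : 49 ≤ L ^ 2 := by nlinarith
    have : 7 * 48 ≤ L * (L ^ 2 - 1) := Nat.mul_le_mul h7 (by omega)
    omega
  · interval_cases L <;> norm_num at h

theorem arith_120 {p γ : ℕ} (hp : p.Prime) (h : p ^ γ * ((p ^ γ) ^ 2 - 1) = 120) : p = 5 ∧ γ = 1 := by
  have h5 : p ^ γ = 5 := by
    rcases le_or_gt 6 (p ^ γ) with h6 | h6
    · have : 36 ≤ (p ^ γ) ^ 2 := by nlinarith
      have : 6 * 35 ≤ p ^ γ * ((p ^ γ) ^ 2 - 1) := Nat.mul_le_mul h6 (by omega)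
      omega
    · set L := p ^ γ
      interval_cases L <;> first | rfl | (norm_num at h)
  obtain ⟨i, -, hi⟩ := (Nat.dvd_prime_pow hp).1 (show 5 ∣ p ^ γ from h5 ▸ dvd_rfl)
  rcases Nat.eq_zero_or_pos i with rfl | hi0
  · norm_num at hi
  have : p = 5 := ((Nat.prime_dvd_prime_iff_eq hp (by norm_num)).1 (hi ▸ dvd_pow_self p hi0.ne'))
  subst this
  exact ⟨rfl, Nat.pow_right_injective (by norm_num) (h5.trans (pow_one 5).symm)⟩

theorem mod_ten {q : ℕ} (h2 : q % 2 = 1) (h5 : 5 ∣ q * (q ^ 2 - 1)) (h0 : ¬ 5 ∣ q) :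
    q % 10 = 1 ∨ q % 10 = 9 := by
  have h1 := ((Nat.Prime.dvd_mul (by norm_num)).1 h5).resolve_left h0
  have hq : 1 ≤ q ^ 2 := Nat.one_le_pow _ _ (by omega)
  have h3 : q ^ 2 % 5 = 1 := by
    obtain ⟨k, hk⟩ := h1
    omega
  rw [Nat.pow_mod] at h3
  have h4 : q % 5 < 5 := Nat.mod_lt _ (by norm_num)
  have h6 : q % 10 < 10 := Nat.mod_lt _ (by norm_num)
  interval_cases h8 : q % 5 <;> norm_num at h3 <;> omega

/-- A group without solvable normal subgroups inside `PGL₂(p^α)`. -/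
theorem target_of_pgl {F : Type*} [Field F] [Fintype F] {p α : ℕ} (hp : p.Prime) (hodd : p ≠ 2)
    (hF : Fintype.card F = p ^ α) {H : Type*} [Group H] [Finite H] [Nontrivial H] (hH : NoRad H)
    (j : H →* Matrix.ProjGenLinGroup (Fin 2) F) (hj : Function.Injective j) : Target p α H := by
  classical
  have hα : α ≠ 0 := by
    rintro rfl
    have := Fintype.one_lt_card (α := F)
    rw [hF, pow_zero] at this
    omega
  have hp3 : 3 ≤ p := by have := hp.two_le; omega
  have hq2 : p ^ α % 2 = 1 := by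
    rw [Nat.pow_mod, Nat.odd_iff.1 (hp.odd_of_ne_two hodd), one_pow, Nat.one_mod]
  have h2 : (2 : F) ≠ 0 := Cfsg.Agent.Small.SL2C.not_two_dvd_iff.mp (by rw [hF]; omega)
  have hnsH : ¬ Group.IsSolvable H := fun hs => by
    haveI := hs
    have h := hH.eq_bot_of_solvable ⊤ inferInstance inferInstance
    exact bot_ne_top h.symm
  let τ : Matrix.ProjectiveSpecialLinearGroup (Fin 2) F →* Matrix.ProjGenLinGroup (Fin 2) F :=
    Matrix.ProjectiveSpecialLinearGroup.toPGL
  have hτ : Function.Injective τ := Matrix.ProjectiveSpecialLinearGroup.toPGL_injective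
  haveI := Dickson.range_normal (F := F)
  haveI := Dickson.finite_pgl F
  let H1 : Subgroup H := τ.range.comap j
  haveI hH1n : H1.Normal := Subgroup.normal_comap j
  have hidx : H1.index = 1 ∨ H1.index = 2 := by
    refine (Nat.dvd_prime Nat.prime_two).1 ?_
    rw [← Dickson.range_index h2, Subgroup.index_comap]
    exact Subgroup.relIndex_dvd_index_of_normal _ _
  let S : Subgroup (Matrix.ProjectiveSpecialLinearGroup (Fin 2) F) := j.range.comap τ
  have hmap : H1.map j = S.map τ := by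
    rw [Subgroup.map_comap_eq, Subgroup.map_comap_eq, inf_comm]
  let e1 : H1 ≃* S := (H1.equivMapOfInjective j hj).trans
    ((MulEquiv.subgroupCongr hmap).trans (S.equivMapOfInjective τ hτ).symm)
  have hnsS : ¬ Group.IsSolvable S := by
    intro hs
    haveI := hs
    have hbot := hH.eq_bot_of_solvable H1 hH1n
      (Group.isSolvable_of_isSolvable_injective (f := e1.toMonoidHom) e1.injective)
    have h1 := H1.card_mul_index
    rw [hbot, Subgroup.card_bot, one_mul] at h1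
    rw [hbot] at hidx
    have hle : Nat.card H ≤ 2 := by omega
    refine hnsH (Group.isSolvable_of_comm fun a b => ?_)
    rcases hidx with h | h
    · haveI := (Nat.card_eq_one_iff_unique.1 (h1 ▸ h)).1
      exact Subsingleton.elim _ _
    · haveI : Fact (Nat.Prime 2) := ⟨Nat.prime_two⟩
      haveI := isCyclic_of_prime_card (α := H) (p := 2) (h1 ▸ h)
      exact (IsMulCommutative.is_comm (M := H)).comm a b
  -- when `A₅` occurs
  have hA5 : Nonempty (H ≃* alternatingGroup (Fin 5)) → Target p α H := by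
    rintro ⟨e⟩
    obtain ⟨f⟩ := a5_psl_five
    haveI : Fact (Nat.Prime 5) := ⟨by norm_num⟩
    by_cases h5 : p = 5
    · subst h5
      exact Or.inr (Or.inr (Or.inr (Or.inr (Or.inl ⟨ZMod 5, inferInstance, inferInstance, 1,
        by rw [ZMod.card, pow_one], one_dvd _, by norm_num, Or.inl ⟨e.trans f⟩⟩))))
    · refine Or.inr (Or.inr (Or.inr (Or.inr (Or.inr (Or.inl ⟨mod_ten hq2 ?_ ?_, ZMod 5, inferInstance,
        inferInstance, ZMod.card 5, ⟨e.trans f⟩⟩)))))
      · have h1 := Subgroup.card_dvd_of_injective j hj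
        rw [Dickson.card_pgl, hF] at h1
        refine dvd_trans ?_ h1
        rw [Nat.card_congr e.toEquiv, card_alt_five]
        norm_num
      · intro h
        exact h5 ((Nat.prime_dvd_prime_iff_eq (by norm_num) hp).1 ((by norm_num : Nat.Prime 5).dvd_of_dvd_pow h)).symm
  rcases hidx with h1 | h1
  · -- inside `PSL₂`
    have htop : H1 = ⊤ := Subgroup.index_eq_one.1 h1
    let e : H ≃* S := (Subgroup.topEquiv.symm.trans (MulEquiv.subgroupCongr htop.symm)).trans e1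
    rcases nonsolvable_psl hp hodd hF hα S hnsS with ⟨⟨f⟩, -⟩ | ⟨K, i1, i2, β, hK, hβ, h4, hiso⟩
    · exact hA5 ⟨e.trans f⟩
    · refine Or.inr (Or.inr (Or.inr (Or.inr (Or.inl ⟨K, i1, i2, β, hK, hβ, by omega, ?_⟩))))
      rcases hiso with ⟨⟨f⟩, -⟩ | ⟨⟨f⟩, -⟩
      · exact Or.inr ⟨e.trans f⟩
      · exact Or.inl ⟨e.trans f⟩
  · -- an extension of degree two
    obtain ⟨E, iE, iE', φ, hE2, hφ, hEc⟩ := Dickson.exists_psl_embedding h2
    letI := iE
    letI := iE'
    let jE := φ.comp j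
    let eH : H ≃* jE.range := MonoidHom.ofInjective (f := jE) (hφ.comp hj)
    have hHc : Nat.card H = 2 * Nat.card S := by
      have h := H1.card_mul_index
      rw [h1, Nat.card_congr e1.toEquiv] at h
      omega
    have hHr : Nat.card jE.range = 2 * Nat.card S := by rw [← hHc, Nat.card_congr eH.toEquiv]
    have hnsE : ¬ Group.IsSolvable jE.range := fun hs => by
      haveI := hs
      exact hnsH (Group.isSolvable_of_isSolvable_injective (f := eH.toMonoidHom) eH.injective)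
    have hSc := nonsolvable_psl hp hodd hF hα S hnsS
    rcases nonsolvable_psl hp hodd (show Fintype.card E = p ^ (α * 2) by rw [hEc, hF, pow_mul]) (by omega)
      jE.range hnsE with ⟨-, h60⟩ | ⟨L, i1, i2, γ, hL, -, hL4, hiso⟩
    · exfalso
      rcases hSc with ⟨-, h⟩ | ⟨K, -, -, β, -, -, h4, ⟨-, h⟩ | ⟨-, h⟩⟩
      · omega
      all_goals
        have h5 : 5 ≤ p ^ β := by
          rcases Nat.lt_or_ge 4 (p ^ β) with h | h
          · omega
          · exfalso
            have : (p ^ β) % 2 = 1 := by rw [Nat.pow_mod, Nat.odd_iff.1 (hp.odd_of_ne_two hodd), one_pow, Nat.one_mod]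
            omega
        have h24 : 5 * 24 ≤ p ^ β * ((p ^ β) ^ 2 - 1) := by
          have : 25 ≤ (p ^ β) ^ 2 := by nlinarith
          exact Nat.mul_le_mul h5 (by omega)
        omega
    rcases hiso with ⟨⟨f⟩, hc⟩ | ⟨⟨f⟩, hc⟩
    · -- `PGL₂`
      rcases hSc with ⟨-, h⟩ | ⟨K, iK, iK', β, hK, hβ, h4, ⟨-, h⟩ | ⟨-, h⟩⟩
      · obtain ⟨rfl, rfl⟩ := arith_120 (γ := γ) hp (by omega)
        exact Or.inr (Or.inr (Or.inr (Or.inr (Or.inl ⟨L, i1, i2, 1, hL, one_dvd _, by norm_num,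
          Or.inr ⟨eH.trans f⟩⟩))))
      · exact absurd (arith_pow hp3 (c := 2) (Or.inr (Or.inl rfl)) (γ := γ) (β := β) (by omega) h4).1 (by norm_num)
      · obtain ⟨-, rfl⟩ := arith_pow hp3 (c := 1) (Or.inl rfl) (γ := γ) (β := β) (by omega) h4
        exact Or.inr (Or.inr (Or.inr (Or.inr (Or.inl ⟨L, i1, i2, γ, hL, hβ, by omega, Or.inr ⟨eH.trans f⟩⟩))))
    · exfalso
      rcases hSc with ⟨-, h⟩ | ⟨K, -, -, β, -, -, h4, ⟨-, h⟩ | ⟨-, h⟩⟩
      · exact arith_240 (p := p) (γ := γ) (by omega)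
      · exact absurd (arith_pow hp3 (c := 4) (Or.inr (Or.inr rfl)) (γ := γ) (β := β) (by omega) h4).1 (by norm_num)
      · exact absurd (arith_pow hp3 (c := 2) (Or.inr (Or.inl rfl)) (γ := γ) (β := β) (by omega) h4).1 (by norm_num)

end Cfsg.Agent.PThree.Sub
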