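import Cfsg.Agent.Lib.Classical.PThree.Basic
import Cfsg.Agent.Lib.Classical.PThree.Sub.Reducible
import Cfsg.Agent.Lib.Classical.LinThree.OrthForm
import Cfsg.Agent.Lib.Char.HalfDegree.SOThree

/-!
# Groups fixing a quadratic form: `SO₃(q) ≅ PGL₂(q)`
-/

set_option autoImplicit false
set_option linter.unusedSectionVars false
set_option linter.style.haveILetI false

namespace Cfsg.Agent.PThree.Sub

open Matrix Cfsg Cfsg.Geo
open Cfsg.Agent.Char.HalfDegree (adMat adMat_one adMat_mul)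
open scoped MatrixGroups

variable {F : Type*} [Field F]

local notation "M3" => Matrix (Fin 3) (Fin 3) F
local notation "M2" => Matrix (Fin 2) (Fin 2) F
local notation "Gram" => Cfsg.Agent.Char.HalfDegree.gram

theorem adMat_gram' (a : M2) : (adMat a)ᵀ * Gram F * adMat a = a.det ^ 2 • Gram F := by
  ext i j
  fin_cases i <;> fin_cases j <;>
    simp [adMat, Cfsg.Agent.Char.HalfDegree.gram, Matrix.det_fin_two, Matrix.mul_apply, Fin.sum_univ_three] <;> ring

theorem adMat_det (a : M2) : (adMat a).det = a.det ^ 3 := by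
  simp [adMat, Matrix.det_fin_three, Matrix.det_fin_two]
  ring

theorem adMat_smul (c : F) (a : M2) : adMat (c • a) = c ^ 2 • adMat a := by
  ext i j; fin_cases i <;> fin_cases j <;> simp [adMat] <;> ring

/-- Every element of `SO₃` is a scaled adjoint map. -/
theorem exists_adjoint (h2 : (2 : F) ≠ 0) {M : M3} (hM : Mᵀ * Gram F * M = Gram F) (hdet : M.det = 1) :
    ∃ (a : GL (Fin 2) F) (t : F), t ≠ 0 ∧ adMat (a : M2) = t • M := by
  have ent : ∀ M : M3, Mᵀ * Gram F * M = Gram F → ∀ i j,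
      2 * M 0 i * M 0 j + M 1 i * M 2 j + M 2 i * M 1 j = Gram F i j := by
    intro M hM i j
    have h := congrFun (congrFun hM i) j
    simp [Matrix.mul_apply, Cfsg.Agent.Char.HalfDegree.gram, Fin.sum_univ_three] at h
    simp [Cfsg.Agent.Char.HalfDegree.gram]
    linear_combination h
  -- a map fixing the second basis vector
  have fixed : ∀ M : M3, Mᵀ * Gram F * M = Gram F → M.det = 1 →
      M 0 1 = 0 → M 1 1 = 1 → M 2 1 = 0 → ∃ g : GL (Fin 2) F, adMat (g : M2) * M = 1 := by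
    intro M hM hdet e0 e1 e2
    have h12 := ent M hM 1 2
    simp [e0, e1, e2, Cfsg.Agent.Char.HalfDegree.gram] at h12
    let g : GL (Fin 2) F :=
      Matrix.GeneralLinearGroup.mkOfDetNeZero !![1, -M 0 2; 0, 1] (by simp [Matrix.det_fin_two])
    have hg : (g : M2) = !![1, -M 0 2; 0, 1] := rfl
    refine ⟨g, ?_⟩
    obtain ⟨N, hNdef⟩ : ∃ N, N = adMat (g : M2) * M := ⟨_, rfl⟩
    have hN : Nᵀ * Gram F * N = Gram F := by
      rw [hNdef, Matrix.transpose_mul, show Mᵀ * (adMat (g : M2))ᵀ * Gram F * (adMat (g : M2) * M) =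
        Mᵀ * ((adMat (g : M2))ᵀ * Gram F * adMat (g : M2)) * M by simp only [Matrix.mul_assoc], adMat_gram']
      simp [hg, Matrix.det_fin_two, hM]
    have hNd : N.det = 1 := by rw [hNdef, Matrix.det_mul, adMat_det, hdet]; simp [hg, Matrix.det_fin_two]
    rw [← hNdef]
    have n01 : N 0 1 = 0 := by
      rw [hNdef, Matrix.mul_apply]; simp [hg, adMat, Fin.sum_univ_three, e0, e1, e2]
    have n11 : N 1 1 = 1 := by
      rw [hNdef, Matrix.mul_apply]; simp [hg, adMat, Fin.sum_univ_three, e0, e1, e2]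
    have n21 : N 2 1 = 0 := by
      rw [hNdef, Matrix.mul_apply]; simp [hg, adMat, Fin.sum_univ_three, e0, e1, e2]
    have n02 : N 0 2 = 0 := by
      rw [hNdef, Matrix.mul_apply]; simp [hg, adMat, Fin.sum_univ_three, h12]
    have n22 : N 2 2 = 1 := by
      rw [hNdef, Matrix.mul_apply]; simp [hg, adMat, Fin.sum_univ_three, h12]
    have n12 : N 1 2 = 0 := by
      have := ent N hN 2 2
      simp [n02, n22, Cfsg.Agent.Char.HalfDegree.gram] at this
      exact (mul_eq_zero.mp (show (2 : F) * N 1 2 = 0 by linear_combination this)).resolve_left h2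
    have n20 : N 2 0 = 0 := by
      have := ent N hN 1 0
      simp [n01, n11, n21, Cfsg.Agent.Char.HalfDegree.gram] at this
      exact this
    have n10 : N 1 0 = 0 := by
      have := ent N hN 2 0
      simp [n02, n12, n22, Cfsg.Agent.Char.HalfDegree.gram] at this
      exact this
    have n00 : N 0 0 = 1 := by
      rw [Matrix.det_fin_three] at hNd
      simpa [n01, n11, n21, n02, n12, n22, n10, n20] using hNd
    ext i j
    fin_cases i <;> fin_cases j <;>
      simp [n00, n10, n20, n01, n11, n21, n02, n12, n22]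
  have h11 := ent M hM 1 1
  simp [Cfsg.Agent.Char.HalfDegree.gram] at h11
  have hiso : M 0 1 ^ 2 + M 1 1 * M 2 1 = 0 :=
    (mul_eq_zero.mp (show (2 : F) * (M 0 1 ^ 2 + M 1 1 * M 2 1) = 0 by
      linear_combination h11)).resolve_left h2
  -- an adjoint map with the same second column
  obtain ⟨g, hg0, hg1, hg2⟩ : ∃ g : GL (Fin 2) F,
      -((g : M2) 0 0 * (g : M2) 1 0) = (g : M2).det * M 0 1 ∧ (g : M2) 0 0 ^ 2 = (g : M2).det * M 1 1 ∧
        -(g : M2) 1 0 ^ 2 = (g : M2).det * M 2 1 := by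
    by_cases hb : M 1 1 = 0
    · have ha : M 0 1 = 0 := by
        rw [hb, zero_mul, add_zero] at hiso
        exact pow_eq_zero_iff (two_ne_zero) |>.mp hiso
      have hc : M 2 1 ≠ 0 := fun hc => by
        rw [Matrix.det_fin_three, ha, hb, hc] at hdet
        simp at hdet
      refine ⟨Matrix.GeneralLinearGroup.mkOfDetNeZero !![0, (M 2 1)⁻¹; 1, 0]
        (by simp [Matrix.det_fin_two, hc]), ?_, ?_, ?_⟩ <;>
        simp [Matrix.det_fin_two, ha, hb, hc]
    · refine ⟨Matrix.GeneralLinearGroup.mkOfDetNeZero !![1, 0; -(M 0 1 / M 1 1), (M 1 1)⁻¹]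
        (by simp [Matrix.det_fin_two, hb]), ?_, ?_, ?_⟩
      · simp [Matrix.det_fin_two]; field_simp
      · simp [Matrix.det_fin_two, hb]
      · simp [Matrix.det_fin_two]
        field_simp
        linear_combination -hiso
  set d := (g : M2).det
  have hd : d ≠ 0 := (Matrix.GeneralLinearGroup.det g).ne_zero
  -- translate back
  let N : M3 := d • (adMat ((g⁻¹ : GL (Fin 2) F) : M2) * M)
  have hdi : ((g⁻¹ : GL (Fin 2) F) : M2).det * d = 1 := by
    rw [← Matrix.det_mul, Units.inv_mul, Matrix.det_one]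
  have hN : Nᵀ * Gram F * N = Gram F := by
    show (d • _)ᵀ * Gram F * (d • _) = _
    rw [Matrix.transpose_smul, Matrix.smul_mul, Matrix.mul_smul, Matrix.smul_mul, smul_smul,
      Matrix.transpose_mul, show Mᵀ * (adMat ((g⁻¹ : GL (Fin 2) F) : M2))ᵀ * Gram F * (adMat ((g⁻¹ : GL (Fin 2) F) : M2) * M) =
        Mᵀ * ((adMat ((g⁻¹ : GL (Fin 2) F) : M2))ᵀ * Gram F * adMat ((g⁻¹ : GL (Fin 2) F) : M2)) * M by
          simp only [Matrix.mul_assoc],
      adMat_gram', Matrix.mul_smul, Matrix.smul_mul, hM, smul_smul,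
      show d * d * ((g⁻¹ : GL (Fin 2) F) : M2).det ^ 2 = 1 by
        rw [show d * d * ((g⁻¹ : GL (Fin 2) F) : M2).det ^ 2 = (((g⁻¹ : GL (Fin 2) F) : M2).det * d) ^ 2 by ring, hdi, one_pow],
      one_smul]
  have hNd : N.det = 1 := by
    show (d • (_ : M3)).det = 1
    rw [Matrix.det_smul, Matrix.det_mul, adMat_det, hdet, Fintype.card_fin, mul_one, ← mul_pow, mul_comm, hdi,
      one_pow]
  have hcol : ∀ i, N i 1 = (![0, 1, 0] : Fin 3 → F) i := by
    have e : adMat (g : M2) *ᵥ ![0, 1, 0] = d • fun i => M i 1 := by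
      funext i
      fin_cases i <;> simp [adMat, Matrix.mulVec, dotProduct, Fin.sum_univ_three] <;> assumption
    intro i
    have e2 : (adMat ((g⁻¹ : GL (Fin 2) F) : M2)) *ᵥ (d • fun i => M i 1) = ![0, 1, 0] := by
      rw [← e, Matrix.mulVec_mulVec, ← adMat_mul, Units.inv_mul, adMat_one, Matrix.one_mulVec]
    rw [← congrFun e2 i]
    simp only [N, Matrix.smul_apply, Matrix.mulVec_smul, Pi.smul_apply, smul_eq_mul]
    rfl
  obtain ⟨g', hg'⟩ := fixed N hN hNd (by simpa using hcol 0) (by simpa using hcol 1) (by simpa using hcol 2)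
  refine ⟨g * g'⁻¹, d, hd, ?_⟩
  rw [Units.val_mul, adMat_mul]
  have hinv : adMat ((g'⁻¹ : GL (Fin 2) F) : M2) = N := by
    calc adMat ((g'⁻¹ : GL (Fin 2) F) : M2) = adMat ((g'⁻¹ : GL (Fin 2) F) : M2) * (adMat (g' : M2) * N) := by
          rw [hg', Matrix.mul_one]
      _ = N := by rw [← Matrix.mul_assoc, ← adMat_mul, Units.inv_mul, adMat_one, Matrix.one_mul]
  rw [hinv]
  show adMat (g : M2) * (d • _) = _
  rw [Matrix.mul_smul, ← Matrix.mul_assoc, ← adMat_mul, Units.mul_inv, adMat_one, Matrix.one_mul]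

theorem adMat_scalar {a : M2} {s : F} (hs : s ≠ 0) (h : adMat a = s • (1 : M3)) :
    a = a 0 0 • (1 : M2) := by
  have e00 := congrFun (congrFun h 0) 0
  have e11 := congrFun (congrFun h 1) 1
  have e12 := congrFun (congrFun h 1) 2
  have e21 := congrFun (congrFun h 2) 1
  simp [adMat] at e00 e11 e12 e21
  have ha : a 0 0 ≠ 0 := fun e => hs (by rw [← e11, e]; ring)
  rw [e12, e21, mul_zero, add_zero] at e00
  have had : a 1 1 = a 0 0 := by
    refine mul_left_cancel₀ ha ?_
    rw [e00, ← e11]; ring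
  ext i j
  fin_cases i <;> fin_cases j <;> simp [e12, e21, had]

variable [Fintype F] {H : Type*} [Group H] [Finite H] [Nontrivial H]

local notation "GL3" => GL (Fin 3) F

/-- Similitudes of the standard form. -/
theorem target_of_gram {p α : ℕ} (hp : p.Prime) (hodd : p ≠ 2) (hF : Fintype.card F = p ^ α) (hH : NoRad H)
    (h2 : (2 : F) ≠ 0) {G : Subgroup GL3} {π : G →* H} (S : Sit H G π)
    (hsim : ∀ g ∈ G, ∃ c : F, (g : M3)ᵀ * Gram F * (g : M3) = c • Gram F) : Target p α H := by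
  classical
  have hgdet : (Gram F).det ≠ 0 := by
    rw [Matrix.det_fin_three]; simp [Cfsg.Agent.Char.HalfDegree.gram]; exact h2
  have hrel : ∀ g : G, ∃ (a : GL (Fin 2) F) (t : F), t ≠ 0 ∧ adMat (a : M2) = t • ((g : GL3) : M3) := by
    intro g
    obtain ⟨c, hc⟩ := hsim g g.2
    set X : M3 := ((g : GL3) : M3)
    have hX : X.det ≠ 0 := (Matrix.GeneralLinearGroup.det (g : GL3)).ne_zero
    have hdd : X.det ^ 2 = c ^ 3 := by
      have e := congrArg Matrix.det hc
      rw [Matrix.det_mul, Matrix.det_mul, Matrix.det_transpose, Matrix.det_smul, Fintype.card_fin] at e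
      exact mul_right_cancel₀ hgdet (by linear_combination e)
    have hc0 : c ≠ 0 := fun e => hX (by rw [e] at hdd; simpa using hdd)
    obtain ⟨a, t, ht, ha⟩ := exists_adjoint h2 (M := (c / X.det) • X) (by
      rw [Matrix.transpose_smul, Matrix.smul_mul, Matrix.smul_mul, Matrix.mul_smul, hc, smul_smul, smul_smul,
        show c / X.det * (c / X.det) * c = 1 by field_simp; linear_combination -hdd, one_smul]) (by
      rw [Matrix.det_smul, Fintype.card_fin]
      field_simp
      linear_combination -hdd)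
    exact ⟨a, t * (c / X.det), mul_ne_zero ht (div_ne_zero hc0 hX), by rw [ha, smul_smul]⟩
  choose a t ht ha using hrel
  -- uniqueness up to scalars
  have huniq : ∀ (g : G) (b : GL (Fin 2) F) (s : F), s ≠ 0 → adMat (b : M2) = s • ((g : GL3) : M3) →
      (Matrix.ProjGenLinGroup.mk b : Matrix.ProjGenLinGroup (Fin 2) F) = Matrix.ProjGenLinGroup.mk (a g) := by
    intro g b s hs hb
    have e : adMat (((a g)⁻¹ * b : GL (Fin 2) F) : M2) = (s / t g) • (1 : M3) := by
      rw [Units.val_mul, adMat_mul, hb, Matrix.mul_smul]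
      have e1 : adMat (((a g)⁻¹ : GL (Fin 2) F) : M2) * ((g : GL3) : M3) = (t g)⁻¹ • (1 : M3) := by
        have e2 : adMat (((a g)⁻¹ : GL (Fin 2) F) : M2) * adMat ((a g : GL (Fin 2) F) : M2) = 1 := by
          rw [← adMat_mul, Units.inv_mul, adMat_one]
        rw [ha g, Matrix.mul_smul] at e2
        rw [← e2, smul_smul, inv_mul_cancel₀ (ht g), one_smul]
      rw [e1, smul_smul, div_eq_mul_inv]
    have h := adMat_scalar (div_ne_zero hs (ht g)) e
    refine (QuotientGroup.eq (s := Subgroup.center (GL (Fin 2) F))).2 ?_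
    rw [← inv_mem_iff, _root_.mul_inv_rev, inv_inv]
    refine Subgroup.mem_center_iff.2 fun y => Units.ext ?_
    rw [Units.val_mul, Units.val_mul ((a g)⁻¹ * b) y, h]
    simp
  let ψ : G →* Matrix.ProjGenLinGroup (Fin 2) F := MonoidHom.mk' (fun g => Matrix.ProjGenLinGroup.mk (a g))
    fun g h => by
      rw [← map_mul]
      refine (huniq (g * h) (a g * a h) (t g * t h) (mul_ne_zero (ht g) (ht h)) ?_).symm
      rw [Units.val_mul, adMat_mul, ha g, ha h, Matrix.smul_mul, Matrix.mul_smul, smul_smul]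
      rfl
  have hker : ψ.ker = π.ker := by
    ext x
    rw [MonoidHom.mem_ker, MonoidHom.mem_ker, S.ker x]
    constructor
    · intro hx
      have hx' : (QuotientGroup.mk (a x) : GL (Fin 2) F ⧸ Subgroup.center (GL (Fin 2) F)) = 1 := hx
      rw [QuotientGroup.eq_one_iff, Matrix.GeneralLinearGroup.center_eq_range_scalar] at hx'
      obtain ⟨u, hu⟩ := hx'
      have e := congrArg (fun z : GL (Fin 2) F => (z : M2)) hu
      have e' : (a x : M2) = (u : F) • (1 : M2) := by
        rw [← e]; simp [Matrix.smul_one_eq_diagonal]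
      have h := ha x
      rw [e', adMat_smul, adMat_one] at h
      refine Classical.mem_scalars_of_eq (c := (t x)⁻¹ * (u : F) ^ 2) ?_
      rw [← smul_smul, h, smul_smul, inv_mul_cancel₀ (ht x), one_smul]
    · intro hx
      obtain ⟨c, hc⟩ := (mem_scalars_iff _).1 hx
      have := huniq x 1 (c : F)⁻¹ (inv_ne_zero c.ne_zero) (by
        rw [Units.val_one, adMat_one, hc, smul_smul, inv_mul_cancel₀ c.ne_zero, one_smul])
      show Matrix.ProjGenLinGroup.mk (a x) = 1
      rw [← this, map_one]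
  refine target_of_pgl hp hodd hF hH (π.liftOfSurjective S.surj ⟨ψ, hker.ge⟩) ?_
  rw [← MonoidHom.ker_eq_bot_iff, eq_bot_iff]
  intro y hy
  obtain ⟨x, rfl⟩ := S.surj y
  have e : (π.liftOfSurjective S.surj ⟨ψ, hker.ge⟩) (π x) = ψ x :=
    MonoidHom.liftOfRightInverse_comp_apply π _ _ _ x
  rw [MonoidHom.mem_ker, e] at hy
  rw [Subgroup.mem_bot, ← MonoidHom.mem_ker, ← hker]
  exact MonoidHom.mem_ker.2 hy

/-- The socle fixes a bilinear form. -/
theorem target_of_form {p α : ℕ} (hp : p.Prime) (hodd : p ≠ 2) (hF : Fintype.card F = p ^ α) (hH : NoRad H)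
    {G : Subgroup GL3} {π : G →* H} (S : Sit H G π) {P : Subgroup GL3} (hP : Ctx P)
    (hinv : ∀ g ∈ G, ∀ x ∈ P, g * x * g⁻¹ ∈ P) (hf : Form P (RingEquiv.refl F)) : Target p α H := by
  classical
  obtain ⟨h2, Q, hQ, hfix⟩ := hP.quadratic_of_form hf
  let B : (Fin 3 → F) →ₗ[F] (Fin 3 → F) →ₗ[F] F :=
    LinearMap.mk₂ F (QuadraticMap.polar Q) hQ.polar_bilinear.add_left hQ.polar_bilinear.smul_left
      hQ.polar_bilinear.add_right hQ.polar_bilinear.smul_right
  let M : M3 := LinearMap.toMatrix₂' F B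
  have hB : ∀ (X : M3) i j, (Xᵀ * M * X) i j =
      QuadraticMap.polar Q (X *ᵥ Pi.single i 1) (X *ᵥ Pi.single j 1) := by
    intro X i j
    rw [show M = LinearMap.toMatrix₂' F B from rfl, ← Matrix.toLin'_apply, ← Matrix.toLin'_apply]
    conv_lhs => rw [← LinearMap.toMatrix'_toLin' X]
    rw [← LinearMap.toMatrix₂'_compl₁₂, LinearMap.toMatrix₂'_apply]
    rfl
  have hfixM : ∀ x ∈ P, (x : M3)ᵀ * M * (x : M3).map (RingEquiv.refl F) = M := by
    intro x hx
    have e : (x : M3).map (RingEquiv.refl F) = (x : M3) := by ext; simp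
    rw [e]
    ext i j
    rw [hB]
    have h1 : ∀ u v, QuadraticMap.polar Q ((x : M3) *ᵥ u) ((x : M3) *ᵥ v) = QuadraticMap.polar Q u v := by
      intro u v
      simp only [QuadraticMap.polar, ← Matrix.mulVec_add]
      rw [hfix _ (Classical.coe_mem_matrixSet hx) (u + v), hfix _ (Classical.coe_mem_matrixSet hx) u,
        hfix _ (Classical.coe_mem_matrixSet hx) v]
    rw [h1, show M = LinearMap.toMatrix₂' F B from rfl, LinearMap.toMatrix₂'_apply]
    rfl
  obtain ⟨ρ, P0, e, hρ, hcoord⟩ := Classical.OSimThree.exists_coords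
    (⟨hQ, h2, Fintype.card_fin 3⟩ : Classical.OSimThree.Data Q)
  let T : M3 := Matrix.of fun i j => ![![(0 : F), ρ, 0], ![1, 0, 0], ![0, 0, 1]] (e i) j
  let N : M3 := (P0 : M3) * T
  have hT : ∀ y : Fin 3 → F, (T *ᵥ y) (e.symm 0) = ρ * y 1 ∧ (T *ᵥ y) (e.symm 1) = y 0 ∧
      (T *ᵥ y) (e.symm 2) = y 2 := fun y => by
    refine ⟨?_, ?_, ?_⟩ <;> simp [T, Matrix.mulVec, dotProduct, Fin.sum_univ_three]
  have hQN : ∀ y, Q (N *ᵥ y) = ρ * (y 0 ^ 2 + y 1 * y 2) := fun y => by
    obtain ⟨a, b, c⟩ := hT y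
    rw [← Matrix.mulVec_mulVec, hcoord, a, b, c]
    ring
  have hNM : Nᵀ * M * N = ρ • Gram F := by
    ext i j
    rw [hB]
    simp only [QuadraticMap.polar, ← Matrix.mulVec_add, hQN]
    fin_cases i <;> fin_cases j <;> simp [Cfsg.Agent.Char.HalfDegree.gram] <;> ring
  have hgdet : (Gram F).det ≠ 0 := by
    rw [Matrix.det_fin_three]; simp [Cfsg.Agent.Char.HalfDegree.gram]; exact h2
  have hdetN : N.det ≠ 0 ∧ M ≠ 0 := by
    have h := congrArg Matrix.det hNM
    rw [Matrix.det_mul, Matrix.det_mul, Matrix.det_transpose, Matrix.det_smul, Fintype.card_fin] at h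
    have hne : ρ ^ 3 * (Gram F).det ≠ 0 := mul_ne_zero (pow_ne_zero _ hρ) hgdet
    rw [← h] at hne
    refine ⟨fun e0 => hne (by rw [e0]; ring), fun e0 => hne ?_⟩
    rw [e0]
    simp
  let N' : GL3 := Matrix.GeneralLinearGroup.mkOfDetNeZero N hdetN.1
  refine target_of_gram hp hodd hF hH h2 (S.map (MulAut.conj N'⁻¹) (conj_mem_scalars N'⁻¹)) ?_
  rintro _ ⟨g, hg, rfl⟩
  -- `g` is a similitude of `M`
  obtain ⟨c, hc⟩ := hP.form_unique hdetN.2 hfixM (M' := (g : M3)ᵀ * M * (g : M3)) fun x hx => by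
    have e1 : (x : M3).map (RingEquiv.refl F) = (x : M3) := by ext; simp
    rw [e1]
    have h1 := hfixM _ (hinv g hg x hx)
    have e2 : ((g * x * g⁻¹ : GL3) : M3).map (RingEquiv.refl F) = ((g * x * g⁻¹ : GL3) : M3) := by ext; simp
    rw [e2] at h1
    have e3 : (g : M3) * (x : M3) = ((g * x * g⁻¹ : GL3) : M3) * (g : M3) := by
      rw [← Units.val_mul, ← Units.val_mul, inv_mul_cancel_right]
    calc (x : M3)ᵀ * ((g : M3)ᵀ * M * (g : M3)) * (x : M3) = ((g : M3) * (x : M3))ᵀ * M * ((g : M3) * (x : M3)) := by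
          rw [Matrix.transpose_mul]; simp only [Matrix.mul_assoc]
      _ = (g : M3)ᵀ * (((g * x * g⁻¹ : GL3) : M3)ᵀ * M * ((g * x * g⁻¹ : GL3) : M3)) * (g : M3) := by
          rw [e3, Matrix.transpose_mul]; simp only [Matrix.mul_assoc]
      _ = (g : M3)ᵀ * M * (g : M3) := by rw [h1]
  refine ⟨c, ?_⟩
  have hgv : ((MulAut.conj N'⁻¹).toMonoidHom g : M3) = ((N'⁻¹ : GL3) : M3) * (g : M3) * N := by
    show ((N'⁻¹ * g * N'⁻¹⁻¹ : GL3) : M3) = _
    rw [inv_inv, Units.val_mul, Units.val_mul]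
    rfl
  rw [hgv]
  have hNi : N * ((N'⁻¹ : GL3) : M3) = 1 := by
    rw [show N = (N' : M3) from rfl, Units.mul_inv]
  have hkey : ((N'⁻¹ : GL3) : M3)ᵀ * (ρ • Gram F) * ((N'⁻¹ : GL3) : M3) = M := by
    rw [← hNM]
    calc ((N'⁻¹ : GL3) : M3)ᵀ * (Nᵀ * M * N) * ((N'⁻¹ : GL3) : M3)
        = (N * ((N'⁻¹ : GL3) : M3))ᵀ * M * (N * ((N'⁻¹ : GL3) : M3)) := by
          rw [Matrix.transpose_mul N ((N'⁻¹ : GL3) : M3)]; simp only [Matrix.mul_assoc]
      _ = M := by rw [hNi, Matrix.transpose_one, Matrix.one_mul, Matrix.mul_one]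
  have hfin : (((N'⁻¹ : GL3) : M3) * (g : M3) * N)ᵀ * (ρ • Gram F) * (((N'⁻¹ : GL3) : M3) * (g : M3) * N) =
      c • (ρ • Gram F) := by
    calc _ = Nᵀ * ((g : M3)ᵀ * (((N'⁻¹ : GL3) : M3)ᵀ * (ρ • Gram F) * ((N'⁻¹ : GL3) : M3)) * (g : M3)) * N := by
          simp only [Matrix.transpose_mul, Matrix.mul_assoc]
      _ = _ := by rw [hkey, hc, Matrix.mul_smul, Matrix.smul_mul, hNM]
  rw [Matrix.mul_smul, Matrix.smul_mul, smul_comm c ρ] at hfin
  exact smul_right_injective _ hρ hfin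

end Cfsg.Agent.PThree.Sub
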