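import Cfsg.Agent.Lib.Classical.PThree.Residual
import Cfsg.Agent.Lib.Classical.PThree.TransOdd
import Cfsg.Agent.Lib.Classical.PThree.UThreeFiveStmt
import Cfsg.Agent.Lib.Classical.PThree.Sub.Descend
import Cfsg.Agent.Lib.Classical.PThree.Sub.Ortho
import Cfsg.Agent.Lib.Classical.PThree.Sub.Big
import Cfsg.Agent.Lib.Classical.PThree.Sub.LTwoSeven
import Cfsg.Agent.Lib.Classical.PThree.Sub.Alt

/-!
# The subgroups of `PSL₃(q)`, `q` odd, without abelian normal subgroups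
-/

set_option autoImplicit false
set_option linter.unusedSectionVars false
set_option linter.style.haveILetI false

namespace Cfsg.Agent.PThree.Sub

open Matrix Cfsg Cfsg.Geo
open scoped MatrixGroups

theorem natCast_ne_zero_of_ne {K : Type*} [Field K] {p : ℕ} [CharP K p] (hp : p.Prime) {l : ℕ} (hl : l.Prime)
    (h : p ≠ l) : (l : K) ≠ 0 := fun e =>
  h ((Nat.prime_dvd_prime_iff_eq hp hl).1 ((CharP.cast_eq_zero_iff K p l).1 e))

variable {K : Type*} [Field K] [Fintype K] {H : Type*} [Group H] [Finite H] [Nontrivial H]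
  {G : Subgroup (GL (Fin 3) K)} {π : G →* H} {P : Subgroup (GL (Fin 3) K)}

/-- The socle `PSL₂(7)`. -/
theorem target_of_seven {p a : ℕ} [hp : Fact p.Prime] [CharP K p] (hodd : p ≠ 2) (hK : Fintype.card K = p ^ a)
    (hH : NoRad H) (S : Sit H G π) (hP : Ctx P) (hPG : P ≤ G) (hinv : Inv G P)
    (htw : ∀ τ : K ≃+* K, Twist P τ → τ = RingEquiv.refl K)
    (e : Nonempty ((P ⧸ (scalars (Fin 3) K).subgroupOf P) ≃* Matrix.ProjectiveSpecialLinearGroup (Fin 2) (ZMod 7))) :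
    Target p a H := by
  haveI h7p : Fact (Nat.Prime 7) := ⟨by norm_num⟩
  have hc : Nat.card (P ⧸ (scalars (Fin 3) K).subgroupOf P) = 168 := by
    obtain ⟨e⟩ := e
    exact (Nat.card_congr e.toEquiv).trans (Small.PSLThreeTwo.psl_two_seven (ZMod.card 7)).2
  rcases fields_l27 hP e p with ⟨τ, hτ, ht⟩ | hf | hcase
  · exact absurd (htw τ ht) hτ
  · exact target_of_form hp.out hodd hK hH S hP hinv hf
  have hp7 : p ≠ 7 := by
    rintro rfl
    rcases hcase with ⟨-, h⟩ | ⟨-, h, -⟩ <;> norm_num at h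
  have h7 : ((7 : ℕ) : K) ≠ 0 := natCast_ne_zero_of_ne hp.out h7p.out hp7
  obtain ⟨eH⟩ := equiv_of_168 S hP hPG hinv (by exact_mod_cast h7) hc
  obtain ⟨e⟩ := e
  refine Or.inr (Or.inr (Or.inr (Or.inr (Or.inr (Or.inr (Or.inl
    ⟨?_, ZMod 7, inferInstance, inferInstance, ZMod.card 7, ⟨eH.trans e⟩⟩))))))
  rcases hcase with ⟨hc1, h⟩ | ⟨hc1, h, -⟩
  · rw [← hK, hc1, Nat.pow_mod]
    rcases h with h | h | h <;> rw [h] <;> norm_num
  · rw [← hK, hc1, ← pow_mul, Nat.pow_mod]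
    rcases h with h | h | h <;> rw [h] <;> norm_num

/-- The socle `A₆`. -/
theorem target_of_six {p a : ℕ} [hp : Fact p.Prime] [CharP K p] (hodd : p ≠ 2) (hK : Fintype.card K = p ^ a)
    (hH : NoRad H) (S : Sit H G π) (hP : Ctx P) (hPG : P ≤ G) (hinv : Inv G P)
    (htw : ∀ τ : K ≃+* K, Twist P τ → τ = RingEquiv.refl K)
    (e : Nonempty ((P ⧸ (scalars (Fin 3) K).subgroupOf P) ≃* alternatingGroup (Fin 6))) :
    Target p a H := by
  rcases fields_a6 hP e p with ⟨τ, hτ, ht⟩ | hf | hcase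
  · exact absurd (htw τ ht) hτ
  · exact target_of_form hp.out hodd hK hH S hP hinv hf
  have hp3 : p ≠ 3 := by
    rintro rfl
    rcases hcase with ⟨-, h⟩ | ⟨-, h, -⟩ | ⟨-, h, -⟩ <;> norm_num at h
  have hpar : p % 2 = 1 := Nat.odd_iff.1 (hp.out.odd_of_ne_two hodd)
  have h2 : ((2 : ℕ) : K) ≠ 0 := natCast_ne_zero_of_ne hp.out Nat.prime_two hodd
  have h3 : ((3 : ℕ) : K) ≠ 0 := natCast_ne_zero_of_ne hp.out Nat.prime_three hp3
  obtain ⟨e⟩ := e
  by_cases hp5 : p = 5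
  · subst hp5
    have hc2 : Fintype.card K = 5 ^ 2 := by
      rcases hcase with ⟨-, h⟩ | ⟨hc1, -⟩ | ⟨hc1, -⟩
      · norm_num at h
      · exact hc1
      · exact hc1
    have ha : a = 2 := Nat.pow_right_injective (le_refl 2 |>.trans (by norm_num : 2 ≤ 5)) (hK.symm.trans hc2)
    subst ha
    refine Or.inr (Or.inr (Or.inr (Or.inr (Or.inr (Or.inr (Or.inr (Or.inl ⟨rfl, even_two, ?_⟩)))))))
    rcases alt_six_or_double S hP hPG hinv (by exact_mod_cast h2) (by exact_mod_cast h3) e with h | h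
    · exact Or.inl h
    · exact Or.inr (Or.inr h)
  have h5 : ((5 : ℕ) : K) ≠ 0 := natCast_ne_zero_of_ne hp.out (by norm_num) hp5
  obtain ⟨eH⟩ := equiv_alt_six S hP hPG hinv (by exact_mod_cast h2) (by exact_mod_cast h3) (by exact_mod_cast h5) e
  refine Or.inr (Or.inr (Or.inr (Or.inr (Or.inr (Or.inr (Or.inr (Or.inr ⟨?_, ⟨eH⟩⟩)))))))
  rw [← hK]
  rcases hcase with ⟨hc1, h⟩ | ⟨hc1, -, h⟩ | ⟨hc1, h, -⟩
  · rw [hc1]; omega
  · have h30 : p % 30 = 7 ∨ p % 30 = 13 ∨ p % 30 = 17 ∨ p % 30 = 23 ∨ p % 30 = 3 ∨ p % 30 = 27 := by omega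
    have h3' : p % 3 ≠ 0 := fun h0 =>
      hp3 ((Nat.prime_dvd_prime_iff_eq Nat.prime_three hp.out).1 (Nat.dvd_of_mod_eq_zero h0)).symm
    rw [hc1, Nat.pow_mod]
    rcases h30 with h | h | h | h | h | h <;> first | omega | (rw [h]; norm_num)
  · have h30 : p % 30 = 11 ∨ p % 30 = 29 := by omega
    rw [hc1, Nat.pow_mod]
    rcases h30 with h | h <;> rw [h] <;> norm_num

/-- The groups with absolutely irreducible socle over their field of definition. -/
theorem target_of_ctx {F : Type*} [Field F] [Fintype F] (ι : K →+* F) {p a k : ℕ} [hp : Fact p.Prime] [CharP K p]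
    (hodd : p ≠ 2) (hK : Fintype.card K = p ^ a) (hF : Fintype.card F = p ^ (a * k)) (hH : NoRad H) (S : Sit H G π)
    (hP : Ctx P) (hPG : P ≤ G) (hinv : Inv G P) (htw : ∀ τ : K ≃+* K, Twist P τ → τ = RingEquiv.refl K)
    (hdet : ∀ g ∈ G, ∃ l : F, l ^ 3 * ι (Matrix.GeneralLinearGroup.det g : K) = 1) :
    Target p (a * k) H := by
  have h2 : (2 : K) ≠ 0 := two_ne_zero_of_odd hodd hp.out
  have hA : ∀ Q : Subgroup (GL (Fin 3) K), Ctx Q → Form Q (RingEquiv.refl K) → Q = P → Target p (a * k) H :=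
    fun Q _ hf e => (target_of_form hp.out hodd hK hH S hP hinv (e ▸ hf)).mono (dvd_mul_right a k)
  have hfive : Nonempty ((P ⧸ (scalars (Fin 3) K).subgroupOf P) ≃* alternatingGroup (Fin 5)) → Target p (a * k) H :=
    fun e => hA P hP (form_of_a5 hP e) rfl
  have hsix : Nonempty ((P ⧸ (scalars (Fin 3) K).subgroupOf P) ≃* alternatingGroup (Fin 6)) → Target p (a * k) H :=
    fun e => (target_of_six hodd hK hH S hP hPG hinv htw e).mono (dvd_mul_right a k)
  have hseven : Nonempty ((P ⧸ (scalars (Fin 3) K).subgroupOf P) ≃*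
      Matrix.ProjectiveSpecialLinearGroup (Fin 2) (ZMod 7)) → Target p (a * k) H :=
    fun e => (target_of_seven hodd hK hH S hP hPG hinv htw e).mono (dvd_mul_right a k)
  by_cases ht : ∃ x ∈ P, IsTransvection x
  · obtain ⟨x, hx, ht⟩ := ht
    rcases trans_odd hP h2 hx ht with hsl | ⟨τ, hτ, htw'⟩ | ⟨s, f, hf, hfix, hfull⟩
    · exact target_of_sl ι hp.out hK hF S (hsl ▸ hPG) hdet
    · exact absurd (htw τ htw') hτ
    · exact target_of_su ι hp.out hK hF S hP hPG hinv hf hfix hfull hdet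
  push Not at ht
  by_cases hdvd : p ∣ Nat.card (P ⧸ (scalars (Fin 3) K).subgroupOf P)
  · rcases wild hP h2 p hdvd ht with ⟨τ, hτ, htw'⟩ | hf | ⟨-, e | e⟩ | ⟨h5, h25, s, hs, hinvs, hf⟩
    · exact absurd (htw τ htw') hτ
    · exact hA P hP hf rfl
    · exact hfive e
    · exact hseven e
    subst h5
    rcases u35_cases hP h25 hdvd ht hs hinvs hf with e | e | ⟨⟨e⟩⟩
    · exact hfive e
    · exact hsix e
    have ha : a = 2 := Nat.pow_right_injective (le_refl 2 |>.trans (by norm_num : 2 ≤ 5)) (by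
      show 5 ^ a = 5 ^ 2
      rw [← hK, h25])
    subst ha
    have h3 : ((3 : ℕ) : K) ≠ 0 := natCast_ne_zero_of_ne hp.out Nat.prime_three (by norm_num)
    obtain ⟨eH⟩ := equiv_alt_seven S hP hPG hinv h2 (by exact_mod_cast h3) e
    refine Target.mono (dvd_mul_right 2 k)
      (Or.inr (Or.inr (Or.inr (Or.inr (Or.inr (Or.inr (Or.inr (Or.inl ⟨rfl, even_two, Or.inr (Or.inl ⟨eH⟩)⟩))))))))
  rcases coprime_cases_of wildFive unitaryFive hP p hdvd with e | e | e
  exacts [hfive e, hsix e, hseven e]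

omit [Fintype K] in
/-- A subgroup of `PSL₃` as a group of matrices containing the scalars, modulo scalars. -/
theorem exists_sit (H : Subgroup (Matrix.ProjectiveSpecialLinearGroup (Fin 3) K)) :
    ∃ (G : Subgroup (GL (Fin 3) K)) (π : G →* H), Sit H G π ∧
      ∀ g ∈ G, ∃ l : K, l ^ 3 * (Matrix.GeneralLinearGroup.det g : K) = 1 := by
  classical
  let q := QuotientGroup.mk' (Subgroup.center (Matrix.SpecialLinearGroup (Fin 3) K))
  let D := H.comap q
  let t : D →* GL (Fin 3) K := Matrix.SpecialLinearGroup.toGL.comp D.subtype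
  let ρ : D × scalars (Fin 3) K →* GL (Fin 3) K :=
    { toFun := fun d => t d.1 * (d.2 : GL (Fin 3) K)
      map_one' := by simp
      map_mul' := fun a b => by
        show t (a.1 * b.1) * ((a.2 * b.2 : scalars (Fin 3) K) : GL (Fin 3) K) = _
        have hc : Commute (t b.1) (a.2 : GL (Fin 3) K) := Subgroup.mem_center_iff.1 (scalars_le_center a.2.2) _
        rw [map_mul, Subgroup.coe_mul, mul_assoc (t a.1), ← mul_assoc (t b.1), hc.eq]
        simp [mul_assoc] }
  let ψ : D × scalars (Fin 3) K →* H :=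
    (q.comp D.subtype).codRestrict H (fun x => x.2) |>.comp (MonoidHom.fst _ _)
  have hscal : ∀ x : Matrix.SpecialLinearGroup (Fin 3) K,
      Matrix.SpecialLinearGroup.toGL x ∈ scalars (Fin 3) K ↔ q x = 1 := by
    intro x
    show _ ↔ ((x : Matrix.SpecialLinearGroup (Fin 3) K ⧸ Subgroup.center _) = 1)
    rw [QuotientGroup.eq_one_iff, Matrix.SpecialLinearGroup.mem_center_iff]
    constructor
    · intro h
      obtain ⟨c, hc⟩ := (mem_scalars_iff _).1 h
      have hx : x.1 = Matrix.scalar (Fin 3) (c : K) := by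
        rw [show x.1 = ((Matrix.SpecialLinearGroup.toGL x : GL (Fin 3) K) : Matrix (Fin 3) (Fin 3) K) from rfl, hc,
          Matrix.scalar_apply, ← Matrix.smul_one_eq_diagonal]
      refine ⟨_, ?_, hx.symm⟩
      have hd := x.2
      rw [hx, Matrix.scalar_apply, Matrix.det_diagonal, Finset.prod_const, Finset.card_univ] at hd
      exact hd
    · rintro ⟨r, -, hr⟩
      refine Classical.mem_scalars_of_eq (c := r) ?_
      show x.1 = _
      rw [← hr, Matrix.scalar_apply, ← Matrix.smul_one_eq_diagonal]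
  have hker : ρ.rangeRestrict.ker ≤ ψ.ker := fun d hd => by
    rw [MonoidHom.ker_rangeRestrict] at hd
    have e : t d.1 * (d.2 : GL (Fin 3) K) = 1 := hd
    refine MonoidHom.mem_ker.2 (Subtype.ext ((hscal _).1 ?_))
    show t d.1 ∈ _
    rw [eq_inv_of_mul_eq_one_left e]
    exact inv_mem d.2.2
  let π := ρ.rangeRestrict.liftOfSurjective ρ.rangeRestrict_surjective ⟨ψ, hker⟩
  have hπ : ∀ d, π (ρ.rangeRestrict d) = ψ d := fun d => MonoidHom.liftOfRightInverse_comp_apply _ _ _ _ d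
  refine ⟨ρ.range, π, ⟨fun z hz => ⟨(1, ⟨z, hz⟩), by simp [ρ]⟩, fun y => ?_, fun y => ?_⟩, ?_⟩
  · obtain ⟨x, hx⟩ := QuotientGroup.mk'_surjective _ (y : Matrix.ProjectiveSpecialLinearGroup (Fin 3) K)
    refine ⟨ρ.rangeRestrict (⟨x, show q x ∈ H from hx ▸ y.2⟩, 1), ?_⟩
    rw [hπ]
    exact Subtype.ext hx
  · obtain ⟨d, rfl⟩ := ρ.rangeRestrict_surjective y
    rw [hπ]
    show (ψ d = 1) ↔ t d.1 * (d.2 : GL (Fin 3) K) ∈ _
    rw [Subgroup.mul_mem_cancel_right _ d.2.2, Subtype.ext_iff]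
    exact (hscal _).symm
  · rintro _ ⟨d, rfl⟩
    obtain ⟨c, hc⟩ := (mem_scalars_iff _).1 d.2.2
    refine ⟨((c⁻¹ : Kˣ) : K), ?_⟩
    rw [Matrix.GeneralLinearGroup.val_det_apply]
    show _ * ((t d.1 * (d.2 : GL (Fin 3) K) : GL (Fin 3) K) : Matrix (Fin 3) (Fin 3) K).det = 1
    rw [Units.val_mul, Matrix.det_mul, hc, Matrix.det_smul, Matrix.det_one, Fintype.card_fin, mul_one]
    rw [show ((t d.1 : GL (Fin 3) K) : Matrix (Fin 3) (Fin 3) K).det = 1 from (d.1 : Matrix.SpecialLinearGroup (Fin 3) K).2,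
      one_mul, ← mul_pow, Units.inv_mul, one_pow]

/-- The list. -/
theorem main {F : Type*} [Field F] [Fintype F] {p α : ℕ} [hp : Fact p.Prime] (hodd : p ≠ 2)
    (hF : Fintype.card F = p ^ α) (H : Subgroup (Matrix.ProjectiveSpecialLinearGroup (Fin 3) F)) (hH : H ≠ ⊥)
    (hN : NoRad H) : Target p α H := by
  classical
  haveI : Nontrivial H := (Subgroup.nontrivial_iff_ne_bot H).2 hH
  obtain ⟨G, π, S, hdet⟩ := exists_sit H
  by_cases hirr : ActsIrreducibly (matrixSet G)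
  swap
  · exact target_of_reducible hp.out hodd hF hN S hirr
  obtain ⟨P, hPG, hinv, hP⟩ := exists_socle S hN hirr
  obtain ⟨F1, G1, P1, π1, S1, hP1, hPG1, hinv1, htw, hdet1⟩ := exists_descent S hPG hinv hP hdet
  haveI : CharP F p := charP_of_card_eq_prime_pow hF
  haveI : CharP F1 p := (F1.subtype : F1 →+* F).charP F1.subtype.injective p
  haveI : Fintype F1 := Fintype.ofFinite _
  obtain ⟨k, hk⟩ : ∃ k, Fintype.card F = Fintype.card F1 ^ k := ⟨_, Module.card_eq_pow_finrank (K := F1) (V := F)⟩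
  obtain ⟨a, ha⟩ : ∃ a, Fintype.card F1 = p ^ a := by
    obtain ⟨n, -, hn⟩ := FiniteField.card F1 p
    exact ⟨n, hn⟩
  have hα : α = a * k := Nat.pow_right_injective hp.out.two_le (by
    show p ^ α = p ^ (a * k)
    rw [pow_mul, ← ha, ← hk, hF])
  subst hα
  exact target_of_ctx (F1.subtype : F1 →+* F) hodd ha hF hN S1 hP1 hPG1 hinv1 htw hdet1

end Cfsg.Agent.PThree.Sub
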