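import Cfsg.Prelude.Def_GeometricClasses
import Cfsg.Prelude.Def_Classical
import Mathlib

/-!
# Subgroups of `PSL₃` of odd characteristic: the list, and the standing situation

`Target p α H` is the list of possible groups, `Sit H G π` presents `H` as `G` modulo the scalars and
`NoRad H` says that `H` has no non-trivial normal elementary abelian subgroup.
-/

set_option autoImplicit false
set_option linter.unusedSectionVars false
set_option linter.style.haveILetI false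

namespace Cfsg.Agent.PThree.Sub

open Cfsg Cfsg.Geo
open scoped MatrixGroups

/-- The list. -/
def Target (p α : ℕ) (H : Type*) [Group H] : Prop :=
    (∃ (K : Type) (_ : Field K) (_ : Fintype K) (β : ℕ), Fintype.card K = p ^ β ∧ β ∣ α ∧ Nonempty (H ≃* Matrix.ProjectiveSpecialLinearGroup (Fin 3) K)) ∨
    (∃ (K : Type) (_ : Field K) (_ : Fintype K) (β : ℕ), Fintype.card K = p ^ (2 * β) ∧ 2 * β ∣ α ∧ Nonempty (H ≃* Cfsg.PSU 3 K (p ^ β))) ∨
    (∃ (K : Type) (_ : Field K) (_ : Fintype K) (β : ℕ), Fintype.card K = p ^ β ∧ 3 ∣ p ^ β - 1 ∧ 3 * β ∣ α ∧ ∃ L : Subgroup H, L.index = 3 ∧ Nonempty (↥L ≃* Matrix.ProjectiveSpecialLinearGroup (Fin 3) K)) ∨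
    (∃ (K : Type) (_ : Field K) (_ : Fintype K) (β : ℕ), Fintype.card K = p ^ (2 * β) ∧ 3 ∣ p ^ β + 1 ∧ 6 * β ∣ α ∧ ∃ L : Subgroup H, L.index = 3 ∧ Nonempty (↥L ≃* Cfsg.PSU 3 K (p ^ β))) ∨
    (∃ (K : Type) (_ : Field K) (_ : Fintype K) (β : ℕ), Fintype.card K = p ^ β ∧ β ∣ α ∧ p ^ β ≠ 3 ∧ (Nonempty (H ≃* Matrix.ProjectiveSpecialLinearGroup (Fin 2) K) ∨ Nonempty (H ≃* (GL (Fin 2) K ⧸ Subgroup.center (GL (Fin 2) K))))) ∨
    ((p ^ α % 10 = 1 ∨ p ^ α % 10 = 9) ∧ ∃ (K : Type) (_ : Field K) (_ : Fintype K), Fintype.card K = 5 ∧ Nonempty (H ≃* Matrix.ProjectiveSpecialLinearGroup (Fin 2) K)) ∨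
    ((p ^ α) ^ 3 % 7 = 1 ∧ ∃ (K : Type) (_ : Field K) (_ : Fintype K), Fintype.card K = 7 ∧ Nonempty (H ≃* Matrix.ProjectiveSpecialLinearGroup (Fin 2) K)) ∨
    (p = 5 ∧ Even α ∧ (Nonempty (H ≃* ↥(alternatingGroup (Fin 6))) ∨ Nonempty (H ≃* ↥(alternatingGroup (Fin 7))) ∨
      ∃ L : Subgroup H, L.index = 2 ∧ Nonempty (↥L ≃* ↥(alternatingGroup (Fin 6))))) ∨
    ((p ^ α % 30 = 1 ∨ p ^ α % 30 = 19) ∧ Nonempty (H ≃* ↥(alternatingGroup (Fin 6))))

/-- The list grows with the degree of the field. -/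
theorem Target.mono {p α α' : ℕ} {H : Type*} [Group H] (hα : α ∣ α') (h : Target p α H) :
    Target p α' H := by
  obtain ⟨k, rfl⟩ := hα
  rcases h with ⟨K, i1, i2, β, h1, h2, h3⟩ | ⟨K, i1, i2, β, h1, h2, h3⟩ | ⟨K, i1, i2, β, h1, h2, h3, h4⟩ |
    ⟨K, i1, i2, β, h1, h2, h3, h4⟩ | ⟨K, i1, i2, β, h1, h2, h3⟩ | ⟨h1, h2⟩ | ⟨h1, h2⟩ | ⟨h1, h2, h3⟩ | ⟨h1, h2⟩
  · exact Or.inl ⟨K, i1, i2, β, h1, dvd_mul_of_dvd_left h2 k, h3⟩
  · exact Or.inr (Or.inl ⟨K, i1, i2, β, h1, dvd_mul_of_dvd_left h2 k, h3⟩)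
  · exact Or.inr (Or.inr (Or.inl ⟨K, i1, i2, β, h1, h2, dvd_mul_of_dvd_left h3 k, h4⟩))
  · exact Or.inr (Or.inr (Or.inr (Or.inl ⟨K, i1, i2, β, h1, h2, dvd_mul_of_dvd_left h3 k, h4⟩)))
  · exact Or.inr (Or.inr (Or.inr (Or.inr (Or.inl ⟨K, i1, i2, β, h1, dvd_mul_of_dvd_left h2 k, h3⟩))))
  · refine Or.inr (Or.inr (Or.inr (Or.inr (Or.inr (Or.inl ⟨?_, h2⟩)))))
    rw [pow_mul, Nat.pow_mod]
    rcases h1 with e | e <;> rw [e]
    · simp
    · rcases Nat.even_or_odd' k with ⟨j, rfl | rfl⟩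
      · left; rw [pow_mul, Nat.pow_mod]; norm_num
      · right; rw [pow_succ, Nat.mul_mod, pow_mul, Nat.pow_mod]; norm_num
  · refine Or.inr (Or.inr (Or.inr (Or.inr (Or.inr (Or.inr (Or.inl ⟨?_, h2⟩))))))
    rw [pow_mul, ← pow_mul _ k 3, mul_comm k 3, pow_mul _ 3 k, Nat.pow_mod, h1]
    simp
  · exact Or.inr (Or.inr (Or.inr (Or.inr (Or.inr (Or.inr (Or.inr (Or.inl ⟨h1, h2.mul_right k, h3⟩)))))))
  · refine Or.inr (Or.inr (Or.inr (Or.inr (Or.inr (Or.inr (Or.inr (Or.inr ⟨?_, h2⟩)))))))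
    rw [pow_mul, Nat.pow_mod]
    rcases h1 with e | e <;> rw [e]
    · simp
    · rcases Nat.even_or_odd' k with ⟨j, rfl | rfl⟩
      · left; rw [pow_mul, Nat.pow_mod]; norm_num
      · right; rw [pow_succ, Nat.mul_mod, pow_mul, Nat.pow_mod]; norm_num

variable {F : Type*} [Field F]

/-- `H` is `G` modulo the scalars. -/
structure Sit (H : Type*) [Group H] (G : Subgroup (GL (Fin 3) F)) (π : G →* H) : Prop where
  scal : scalars (Fin 3) F ≤ G
  surj : Function.Surjective π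
  ker : ∀ x : G, π x = 1 ↔ (x : GL (Fin 3) F) ∈ scalars (Fin 3) F

/-- No non-trivial normal elementary abelian subgroup. -/
def NoRad (H : Type*) [Group H] : Prop :=
  ∀ N : Subgroup H, N.Normal → IsMulCommutative N → (∃ r : ℕ, r.Prime ∧ ∀ x ∈ N, x ^ r = 1) → N = ⊥

variable {H : Type*} [Group H]

theorem NoRad.eq_bot_of_comm [Finite H] (hH : NoRad H) (A : Subgroup H) (hA : A.Normal)
    (hc : ∀ a ∈ A, ∀ b ∈ A, a * b = b * a) : A = ⊥ := by
  by_contra hne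
  have h1 : 1 < Nat.card A := Finite.one_lt_card_iff_nontrivial.2 ((Subgroup.nontrivial_iff_ne_bot A).2 hne)
  obtain ⟨r, hr, hrd⟩ := Nat.exists_prime_and_dvd (Nat.ne_of_gt h1)
  haveI := Fact.mk hr
  obtain ⟨a, ha⟩ := exists_prime_orderOf_dvd_card' r hrd
  let B : Subgroup H :=
    { carrier := {x | x ∈ A ∧ x ^ r = 1}
      one_mem' := ⟨A.one_mem, one_pow r⟩
      mul_mem' := fun {x y} hx hy => ⟨A.mul_mem hx.1 hy.1, by
        rw [(show Commute x y from hc x hx.1 y hy.1).mul_pow, hx.2, hy.2, one_mul]⟩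
      inv_mem' := fun {x} hx => ⟨A.inv_mem hx.1, by rw [inv_pow, hx.2, inv_one]⟩ }
  have hB := hH B ⟨fun x hx g => ⟨hA.conj_mem x hx.1 g, by rw [conj_pow, hx.2, mul_one, mul_inv_cancel]⟩⟩
    ⟨⟨fun x y => Subtype.ext (hc x x.2.1 y y.2.1)⟩⟩ ⟨r, hr, fun x hx => hx.2⟩
  have haB : (a : H) ∈ B := ⟨a.2, by rw [← SubgroupClass.coe_pow, ← ha, pow_orderOf_eq_one, Subgroup.coe_one]⟩
  rw [hB, Subgroup.mem_bot] at haB
  rw [show a = 1 from Subtype.ext haB, orderOf_one] at ha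
  exact hr.ne_one ha.symm

/-- A solvable normal subgroup is trivial. -/
theorem NoRad.eq_bot_of_solvable [Finite H] (hH : NoRad H) (N : Subgroup H) (hN : N.Normal)
    (hs : Group.IsSolvable N) : N = ⊥ := by
  obtain ⟨k, hk⟩ := (Group.isSolvable_def N).1 hs
  have key : ∀ i, derivedSeries N (k - i) = ⊥ := by
    intro i
    induction i with
    | zero => exact hk
    | succ i ih =>
      rcases Nat.eq_zero_or_pos (k - i) with h0 | hpos
      · rwa [show k - (i + 1) = k - i by omega]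
      set D := derivedSeries N (k - (i + 1))
      have hD : ⁅D, D⁆ = ⊥ := by
        rw [← derivedSeries_succ, show k - (i + 1) + 1 = k - i by omega]; exact ih
      haveI : N.Normal := hN
      have h := hH.eq_bot_of_comm (D.map N.subtype) ConjAct.normal_of_characteristic_of_normal ?_
      · exact (Subgroup.map_eq_bot_iff_of_injective _ N.subtype_injective).1 h
      rintro _ ⟨a, ha, rfl⟩ _ ⟨b, hb, rfl⟩
      rw [← map_mul, ← map_mul]
      congr 1
      exact commutatorElement_eq_one_iff_mul_comm.1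
        (Subgroup.mem_bot.1 (hD ▸ Subgroup.commutator_mem_commutator ha hb))
  have h := key k
  rw [Nat.sub_self, derivedSeries_zero] at h
  rw [← Subgroup.range_subtype N, MonoidHom.range_eq_map, h, Subgroup.map_bot]

/-- A solvable normal subgroup of `G` consists of scalars. -/
theorem Sit.le_scalars [Finite H] {G : Subgroup (GL (Fin 3) F)} {π : G →* H} (S : Sit H G π) (hH : NoRad H)
    (N : Subgroup G) (hN : N.Normal) (hs : Group.IsSolvable N) :
    ∀ x ∈ N, (x : GL (Fin 3) F) ∈ scalars (Fin 3) F := by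
  intro x hx
  haveI := hs
  have h := hH.eq_bot_of_solvable (N.map π) (hN.map π S.surj)
    (Group.isSolvable_of_surjective (MonoidHom.subgroupMap_surjective π N))
  exact (S.ker x).1 (by rw [← Subgroup.mem_bot, ← h]; exact Subgroup.mem_map_of_mem π hx)

theorem Sit.not_solvable [Finite H] [Nontrivial H] {G : Subgroup (GL (Fin 3) F)} {π : G →* H}
    (S : Sit H G π) (hH : NoRad H) : ¬ Group.IsSolvable G := by
  intro hs
  obtain ⟨h, hh⟩ := exists_ne (1 : H)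
  obtain ⟨x, rfl⟩ := S.surj h
  haveI := hs
  exact hh ((S.ker x).2 (S.le_scalars hH ⊤ inferInstance inferInstance x (Subgroup.mem_top x)))

end Cfsg.Agent.PThree.Sub
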