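import Cfsg.Agent.Lib.Classical.PThree.Basic
import Cfsg.Agent.Lib.Classical.PThree.Sub.Target
import Cfsg.Agent.Lib.Classical.Irreducible

/-!
# The socle of an irreducible group without solvable normal subgroups

An irreducible `G ≤ GL₃` whose quotient by the scalars has no non-trivial solvable normal subgroup
has a normal perfect subgroup which is absolutely irreducible and simple modulo scalars.
-/

set_option autoImplicit false
set_option linter.unusedSectionVars false
set_option linter.style.haveILetI false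

namespace Cfsg.Agent.PThree.Sub

open Matrix Cfsg Cfsg.Geo
open scoped MatrixGroups commutatorElement

variable {F : Type*} [Field F]

local notation "GL3" => GL (Fin 3) F

/-- Being normalised by every member of `D`. -/
def Inv (D M : Subgroup GL3) : Prop := ∀ g ∈ D, ∀ x ∈ M, g * x * g⁻¹ ∈ M

theorem inv_self (D : Subgroup GL3) : Inv D D := fun _ hg _ hx => D.mul_mem (D.mul_mem hg hx) (D.inv_mem hg)

theorem inv_commutator {D M N : Subgroup GL3} (hM : Inv D M) (hN : Inv D N) : Inv D ⁅M, N⁆ := by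
  intro g hg x hx
  have h : x ∈ ⁅M, N⁆.comap (MulAut.conj g).toMonoidHom := by
    refine (Subgroup.commutator_le.2 fun a ha b hb => ?_) hx
    show MulAut.conj g ⁅a, b⁆ ∈ ⁅M, N⁆
    rw [map_commutatorElement]
    exact Subgroup.commutator_mem_commutator (hM g hg a ha) (hN g hg b hb)
  exact h

/-- The perfect residual of a subgroup. -/
theorem exists_residual [Finite F] (I : Subgroup GL3) : ∃ D : Subgroup GL3, D ≤ I ∧ ⁅D, D⁆ = D ∧
    (∀ E : Subgroup GL3, Inv E I → Inv E D) ∧ (D = ⊥ → Group.IsSolvable I) := by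
  haveI : Finite GL3 := inferInstance
  obtain ⟨m, hm⟩ : ∃ m, derivedSeries I (m + 1) = derivedSeries I m := by
    by_contra hcon
    push Not at hcon
    have key : ∀ i, Nat.card (derivedSeries I i) + i ≤ Nat.card I := by
      intro i
      induction i with
      | zero => simpa using Subgroup.card_le_card_group (derivedSeries I 0)
      | succ i ih =>
        have h1 : Nat.card (derivedSeries I (i + 1)) < Nat.card (derivedSeries I i) := by
          refine Set.ncard_lt_ncard ?_ (Set.toFinite _)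
          exact SetLike.coe_ssubset_coe.2 (lt_of_le_of_ne (derivedSeries_antitone I (Nat.le_succ i)) (hcon i))
        omega
    have := key (Nat.card I + 1)
    omega
  refine ⟨(derivedSeries I m).map I.subtype, Subgroup.map_subtype_le _, ?_, fun E hE => ?_, fun h => ?_⟩
  · rw [← Subgroup.map_commutator, ← derivedSeries_succ, hm]
  · have key : ∀ i, Inv E ((derivedSeries I i).map I.subtype) := by
      intro i
      induction i with
      | zero => rwa [derivedSeries_zero, ← MonoidHom.range_eq_map, Subgroup.range_subtype]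
      | succ i ih => rw [derivedSeries_succ, Subgroup.map_commutator]; exact inv_commutator ih ih
    exact key m
  · exact (Group.isSolvable_def I).2 ⟨m, (Subgroup.map_eq_bot_iff_of_injective _ I.subtype_injective).1 h⟩

theorem isSolvable_sup {X : Type*} [Group X] (A B : Subgroup X) [A.Normal] (hA : Group.IsSolvable A)
    (hB : Group.IsSolvable B) : Group.IsSolvable (A ⊔ B : Subgroup X) := by
  haveI := hA
  haveI := hB
  have hK : Group.IsSolvable (A.subgroupOf (A ⊔ B)) :=
    Group.isSolvable_of_isSolvable_injective (f := (Subgroup.subgroupOfEquivOfLe (le_sup_left : A ≤ A ⊔ B)).toMonoidHom)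
      (Subgroup.subgroupOfEquivOfLe _).injective
  have hQ : Group.IsSolvable (↥(A ⊔ B) ⧸ A.subgroupOf (A ⊔ B)) := by
    refine Group.isSolvable_of_surjective
      (f := (QuotientGroup.mk' (A.subgroupOf (A ⊔ B))).comp (Subgroup.inclusion (le_sup_right : B ≤ A ⊔ B))) ?_
    intro q
    obtain ⟨⟨y, hy⟩, rfl⟩ := QuotientGroup.mk'_surjective _ q
    obtain ⟨a, ha, b, hb, rfl⟩ := Subgroup.mem_sup_of_normal_left.1 hy
    refine ⟨⟨b, hb⟩, (QuotientGroup.eq (s := A.subgroupOf (A ⊔ B))).2 ?_⟩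
    rw [Subgroup.mem_subgroupOf]
    show b⁻¹ * (a * b) ∈ A
    have := Subgroup.Normal.conj_mem inferInstance a ha b⁻¹
    rwa [inv_inv, mul_assoc] at this
  exact Group.isSolvable_of_ker_le_range (A.subgroupOf (A ⊔ B)).subtype
    (QuotientGroup.mk' (A.subgroupOf (A ⊔ B)))
    (by rw [QuotientGroup.ker_mk', Subgroup.range_subtype])

theorem eq_bot_of_perfect_le_scalars {M : Subgroup GL3} (hp : ⁅M, M⁆ = M) (hs : M ≤ scalars (Fin 3) F) :
    M = ⊥ := by
  rw [← hp, Subgroup.commutator_eq_bot_iff_le_centralizer]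
  intro x hx
  refine Subgroup.mem_centralizer_iff.2 fun y hy => ?_
  obtain ⟨c, hc⟩ := (mem_scalars_iff x).1 (hs hx)
  apply Units.ext
  simp [hc]

variable [Fintype F] {H : Type*} [Group H] [Finite H] [Nontrivial H]
  {G : Subgroup (GL (Fin 3) F)} {π : G →* H}

set_option maxHeartbeats 1000000 in
/-- The socle. -/
theorem exists_socle (S : Sit H G π) (hH : NoRad H) (hirr : ActsIrreducibly (matrixSet G)) :
    ∃ P : Subgroup GL3, P ≤ G ∧ Inv G P ∧ Ctx P := by
  classical
  haveI : Finite GL3 := inferInstance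
  have hp3 : (Fintype.card (Fin 3)).Prime := by rw [Fintype.card_fin]; exact Nat.prime_three
  -- the minimal perfect normal subgroup
  obtain ⟨D0, hD0, hD0p, hD0i, hD0s⟩ := exists_residual G
  have hD0n : ¬ D0 ≤ scalars (Fin 3) F := fun h =>
    S.not_solvable hH (hD0s (eq_bot_of_perfect_le_scalars hD0p h))
  obtain ⟨P, ⟨hPG, hPp, hPn, hPi⟩, hmin⟩ := Set.Finite.exists_minimalFor
    (fun M : Subgroup GL3 => Nat.card M)
    {M | M ≤ G ∧ ⁅M, M⁆ = M ∧ ¬ M ≤ scalars (Fin 3) F ∧ Inv G M} (Set.toFinite _)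
    ⟨D0, hD0, hD0p, hD0n, hD0i G (inv_self G)⟩
  have hnab : ∀ M : Subgroup GL3, ⁅M, M⁆ = M → ¬ M ≤ scalars (Fin 3) F → ∃ x ∈ M, ∃ y ∈ M, x * y ≠ y * x := by
    intro M hMp hMn
    by_contra hall
    push Not at hall
    refine hMn (le_of_eq_of_le (?_ : M = ⊥) bot_le)
    rw [← hMp, Subgroup.commutator_eq_bot_iff_le_centralizer]
    exact fun x hx => Subgroup.mem_centralizer_iff.2 fun y hy => hall y hy x hx
  have habs := Classical.absIrr_of_nonabelian_normal hp3 hirr hPi (hnab P hPp hPn)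
  have hPirr : ActsIrreducibly (matrixSet P) := habs.1
  -- the radical of `P` consists of scalars
  obtain ⟨R, ⟨hRP, hRi, hRs⟩, hRmax⟩ := Set.Finite.exists_maximalFor
    (fun M : Subgroup GL3 => Nat.card M)
    {M | M ≤ P ∧ Inv P M ∧ Group.IsSolvable M} (Set.toFinite _)
    ⟨⊥, bot_le, fun g _ x hx => by rw [Subgroup.mem_bot] at hx ⊢; rw [hx, mul_one, mul_inv_cancel], inferInstance⟩
  have hRall : ∀ M : Subgroup GL3, M ≤ P → Inv P M → Group.IsSolvable M → M ≤ R := by
    intro M hMP hMi hMs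
    have hsup : Group.IsSolvable (R ⊔ M : Subgroup GL3) := by
      haveI hRn : (R.subgroupOf P).Normal := ⟨fun x hx g => hRi g g.2 x hx⟩
      have e : ∀ A : Subgroup GL3, A ≤ P → Group.IsSolvable A → Group.IsSolvable (A.subgroupOf P) :=
        fun A hA hs => by
          haveI := hs
          exact Group.isSolvable_of_isSolvable_injective (f := (Subgroup.subgroupOfEquivOfLe hA).toMonoidHom)
            (Subgroup.subgroupOfEquivOfLe hA).injective
      have h1 := isSolvable_sup (R.subgroupOf P) (M.subgroupOf P) (e R hRP hRs) (e M hMP hMs)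
      rw [← Subgroup.subgroupOf_sup hRP hMP] at h1
      haveI := h1
      exact Group.isSolvable_of_isSolvable_injective
        (f := (Subgroup.subgroupOfEquivOfLe (sup_le hRP hMP)).symm.toMonoidHom)
        (Subgroup.subgroupOfEquivOfLe (sup_le hRP hMP)).symm.injective
    have hle : Nat.card (R ⊔ M : Subgroup GL3) ≤ Nat.card R := by
      refine hRmax ⟨sup_le hRP hMP, fun g hg x hx => ?_, hsup⟩ (Subgroup.card_le_of_le le_sup_left)
      have : x ∈ (R ⊔ M).comap (MulAut.conj g).toMonoidHom := by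
        refine (sup_le ?_ ?_ : R ⊔ M ≤ _) hx
        · exact fun y hy => Subgroup.mem_sup_left (hRi g hg y hy)
        · exact fun y hy => Subgroup.mem_sup_right (hMi g hg y hy)
      exact this
    exact (le_sup_right : M ≤ R ⊔ M).trans (Subgroup.eq_of_le_of_card_ge le_sup_left hle).ge
  have hRsc : R ≤ scalars (Fin 3) F := by
    have hRG : Inv G R := by
      intro g hg x hx
      let R' := R.map (MulAut.conj g).toMonoidHom
      have hR' : R' ≤ R := by
        haveI := hRs
        refine hRall R' ?_ ?_ (Group.isSolvable_of_surjective (MonoidHom.subgroupMap_surjective _ R))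
        · rintro _ ⟨y, hy, rfl⟩; exact hPi g hg y (hRP hy)
        · rintro h hh _ ⟨y, hy, rfl⟩
          refine ⟨(g⁻¹ * h * g) * y * (g⁻¹ * h * g)⁻¹, hRi _ ?_ y hy, ?_⟩
          · simpa using hPi g⁻¹ (inv_mem hg) h hh
          · show g * _ * g⁻¹ = h * (g * y * g⁻¹) * h⁻¹
            group
      exact hR' ⟨x, hx, rfl⟩
    intro x hx
    haveI := hRs
    have h := S.le_scalars hH (R.subgroupOf G) ⟨fun y hy h => hRG h h.2 y hy⟩
      (Group.isSolvable_of_isSolvable_injective (f := (Subgroup.subgroupOfEquivOfLe (hRP.trans hPG)).toMonoidHom)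
        (Subgroup.subgroupOfEquivOfLe (hRP.trans hPG)).injective)
      ⟨x, hPG (hRP hx)⟩ hx
    exact h
  -- a smallest perfect subgroup normal in `P` is all of `P`
  obtain ⟨M, ⟨hMP, hMp, hMn, hMi⟩, hMmin⟩ := Set.Finite.exists_minimalFor
    (fun M : Subgroup GL3 => Nat.card M)
    {M | M ≤ P ∧ ⁅M, M⁆ = M ∧ ¬ M ≤ scalars (Fin 3) F ∧ Inv P M} (Set.toFinite _)
    ⟨P, le_rfl, hPp, hPn, inv_self P⟩
  have hMabs := Classical.absIrr_of_nonabelian_normal hp3 hPirr hMi (hnab M hMp hMn)
  have hMG : Inv G M := by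
    intro g hg
    let M' := M.map (MulAut.conj g).toMonoidHom
    have hM'P : M' ≤ P := by rintro _ ⟨y, hy, rfl⟩; exact hPi g hg y (hMP hy)
    have hM'i : Inv P M' := by
      rintro h hh _ ⟨y, hy, rfl⟩
      refine ⟨(g⁻¹ * h * g) * y * (g⁻¹ * h * g)⁻¹, hMi _ ?_ y hy, ?_⟩
      · simpa using hPi g⁻¹ (inv_mem hg) h hh
      · show g * _ * g⁻¹ = h * (g * y * g⁻¹) * h⁻¹
        group
    have hM'p : ⁅M', M'⁆ = M' := by rw [← Subgroup.map_commutator, hMp]
    obtain ⟨D, hDI, hDp, hDi, hDs⟩ := exists_residual ⁅M, M'⁆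
    have hIM : ⁅M, M'⁆ ≤ M := Subgroup.commutator_le.2 fun a ha b hb => by
      rw [show ⁅a, b⁆ = a * (b * a⁻¹ * b⁻¹) by rw [commutatorElement_def]; group]
      exact M.mul_mem ha (hMi b (hM'P hb) _ (M.inv_mem ha))
    have hIM' : ⁅M, M'⁆ ≤ M' := Subgroup.commutator_le.2 fun a ha b hb => by
      rw [show ⁅a, b⁆ = (a * b * a⁻¹) * b⁻¹ by rw [commutatorElement_def]]
      exact M'.mul_mem (hM'i a (hMP ha) b hb) (M'.inv_mem hb)
    have hMM' : M ≤ M' := by
      by_cases hD : D ≤ scalars (Fin 3) F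
      · exfalso
        have hsc : ⁅M, M'⁆ ≤ scalars (Fin 3) F :=
          (hRall _ (hIM.trans hMP) (inv_commutator hMi hM'i) (hDs (eq_bot_of_perfect_le_scalars hDp hD))).trans hRsc
        have hscz : scalars (Fin 3) F ≤ Subgroup.center GL3 := fun x hx => by
          obtain ⟨c, hc⟩ := (mem_scalars_iff x).1 hx
          exact Subgroup.mem_center_iff.2 fun y => Units.ext (by simp [hc])
        have hbot : ⁅M', M⁆ = ⊥ := by
          -- three subgroups
          have h1 : ⁅⁅M, M'⁆, M⁆ = ⊥ := Subgroup.commutator_eq_bot_iff_le_centralizer.2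
            ((hsc.trans hscz).trans (Subgroup.center_le_centralizer _))
          have h2 : ⁅⁅M', M⁆, M⁆ = ⊥ := by rw [Subgroup.commutator_comm M' M]; exact h1
          have h3 := Subgroup.commutator_commutator_eq_bot_of_rotate (H₁ := M) (H₂ := M) (H₃ := M') h1 h2
          rw [hMp] at h3
          rwa [Subgroup.commutator_comm]
        have hM'c : M' ≤ scalars (Fin 3) F := fun x hx => Classical.mem_scalars_of_absIrr hMabs fun y hy =>
          (Subgroup.mem_centralizer_iff.1 (Subgroup.commutator_eq_bot_iff_le_centralizer.1 hbot hx) y hy).symm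
        have hM'0 := eq_bot_of_perfect_le_scalars hM'p hM'c
        exact hMn (le_of_eq_of_le ((Subgroup.map_eq_bot_iff_of_injective M (MulAut.conj g).injective).1 hM'0) bot_le)
      · have h1 := hMmin ⟨hDI.trans (hIM.trans hMP), hDp, hD, hDi P (inv_commutator hMi hM'i)⟩
          (Subgroup.card_le_of_le (hDI.trans hIM))
        rw [← Subgroup.eq_of_le_of_card_ge (hDI.trans hIM) h1]
        exact hDI.trans hIM'
    have hM'M : M' ≤ M := by
      have hcard : Nat.card M' = Nat.card M := Subgroup.card_map_of_injective (MulAut.conj g).injective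
      exact (Subgroup.eq_of_le_of_card_ge hMM' hcard.le).ge
    exact fun x hx => hM'M ⟨x, hx, rfl⟩
  have hMP' : M = P := Subgroup.eq_of_le_of_card_ge hMP
    (hmin ⟨hMP.trans hPG, hMp, hMn, hMG⟩ (Subgroup.card_le_of_le hMP))
  subst hMP'
  -- determinant one
  have hsl : M ≤ specialLinear (Fin 3) F := by
    intro x hx
    rw [← hMp] at hx
    refine (Subgroup.commutator_le.2 fun a _ b _ => ?_) hx
    show Matrix.GeneralLinearGroup.det ⁅a, b⁆ = 1
    rw [map_commutatorElement, commutatorElement_eq_one_iff_mul_comm]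
    exact mul_comm _ _
  have hnc : ¬ IsMulCommutative (M ⧸ (scalars (Fin 3) F).subgroupOf M) := by
    intro hc
    refine hMn ?_
    rw [← hMp]
    refine Subgroup.commutator_le.2 fun a ha b hb => ?_
    have h := hc.is_comm.comm (QuotientGroup.mk' _ ⟨a, ha⟩) (QuotientGroup.mk' _ ⟨b, hb⟩)
    rw [← commutatorElement_eq_one_iff_mul_comm, ← map_commutatorElement] at h
    exact Subgroup.mem_subgroupOf.1 ((QuotientGroup.eq_one_iff (N := (scalars (Fin 3) F).subgroupOf M) _).1 h)
  refine ⟨M, hPG, hPi, hsl, hPp, ?_, hnc, habs⟩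
  haveI : Nontrivial (M ⧸ (scalars (Fin 3) F).subgroupOf M) := by
    obtain ⟨x, hx, hxn⟩ := SetLike.not_le_iff_exists.1 hMn
    exact ⟨⟨QuotientGroup.mk' _ ⟨x, hx⟩, 1, fun e => hxn (Subgroup.mem_subgroupOf.1
      ((QuotientGroup.eq_one_iff (N := (scalars (Fin 3) F).subgroupOf M) _).1 e))⟩⟩
  refine ⟨fun N hN => ?_⟩
  set q := QuotientGroup.mk' ((scalars (Fin 3) F).subgroupOf M)
  set N' : Subgroup GL3 := (N.comap q).map M.subtype
  have hN'M : N' ≤ M := Subgroup.map_subtype_le _
  have hN'i : Inv M N' := by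
    intro g hg x hx
    obtain ⟨y, hy, rfl⟩ := Subgroup.mem_map.1 hx
    have hq : q (⟨g, hg⟩ * y * ⟨g, hg⟩⁻¹) ∈ N := by
      rw [map_mul, map_mul, map_inv]
      exact hN.conj_mem (q y) (Subgroup.mem_comap.1 hy) (q ⟨g, hg⟩)
    refine Subgroup.mem_map.2 ⟨_, Subgroup.mem_comap.2 hq, ?_⟩
    simp only [Subgroup.coe_subtype, Subgroup.coe_mul, Subgroup.coe_inv]
  obtain ⟨D, hDI, hDp, hDi, hDs⟩ := exists_residual N'
  by_cases hD : D ≤ scalars (Fin 3) F
  · left
    have hsc := (hRall N' hN'M hN'i (hDs (eq_bot_of_perfect_le_scalars hDp hD))).trans hRsc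
    rw [eq_bot_iff]
    intro z hz
    obtain ⟨y, rfl⟩ := QuotientGroup.mk'_surjective _ z
    rw [Subgroup.mem_bot]
    exact (QuotientGroup.eq_one_iff _).2 (Subgroup.mem_subgroupOf.2 (hsc ⟨y, hz, rfl⟩))
  · right
    have h1 := hMmin ⟨hDI.trans hN'M, hDp, hD, hDi M hN'i⟩ (Subgroup.card_le_of_le (hDI.trans hN'M))
    have hDM : D = M := Subgroup.eq_of_le_of_card_ge (hDI.trans hN'M) h1
    rw [eq_top_iff]
    intro z _
    obtain ⟨y, rfl⟩ := QuotientGroup.mk'_surjective _ z
    obtain ⟨y', hy', e⟩ := hDI (hDM.symm ▸ y.2 : (y : GL3) ∈ D)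
    rw [← Subgroup.subtype_injective M e]
    exact hy'

/-- Elements centralising the socle modulo scalars are scalars. -/
theorem centralizer_scalar {P : Subgroup GL3} (hP : Ctx P) {g : GL3}
    (h : ∀ x ∈ P, g * x * g⁻¹ * x⁻¹ ∈ scalars (Fin 3) F) : g ∈ scalars (Fin 3) F := by
  refine Classical.mem_scalars_of_absIrr hP.absIrred fun x hx => ?_
  have hscc : ∀ s ∈ scalars (Fin 3) F, ∀ y : GL3, s * y = y * s := fun s hs y => by
    obtain ⟨c, hc⟩ := (mem_scalars_iff s).1 hs
    exact Units.ext (by simp [hc])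
  let A : Subgroup GL3 :=
    { carrier := {x | g * x * g⁻¹ * x⁻¹ = 1}
      one_mem' := by simp
      mul_mem' := fun {a b} ha hb => by
        show g * (a * b) * g⁻¹ * (a * b)⁻¹ = 1
        rw [show g * (a * b) * g⁻¹ * (a * b)⁻¹ = (g * a * g⁻¹) * (g * b * g⁻¹ * b⁻¹) * a⁻¹ by group,
          show g * b * g⁻¹ * b⁻¹ = 1 from hb, mul_one]
        exact ha
      inv_mem' := fun {a} ha => by
        show g * a⁻¹ * g⁻¹ * a⁻¹⁻¹ = 1
        have e : g * a * g⁻¹ = a := mul_inv_eq_one.1 ha
        rw [show g * a⁻¹ * g⁻¹ = (g * a * g⁻¹)⁻¹ by group, e]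
        group }
  have hle : ⁅P, P⁆ ≤ A := Subgroup.commutator_le.2 fun a ha b hb => by
    show g * ⁅a, b⁆ * g⁻¹ * ⁅a, b⁆⁻¹ = 1
    rw [mul_inv_eq_one]
    have ea : g * a * g⁻¹ = (g * a * g⁻¹ * a⁻¹) * a := (inv_mul_cancel_right _ _).symm
    have eb : g * b * g⁻¹ = (g * b * g⁻¹ * b⁻¹) * b := (inv_mul_cancel_right _ _).symm
    set s := g * a * g⁻¹ * a⁻¹
    set t := g * b * g⁻¹ * b⁻¹
    have hs := hscc s (h a ha)
    have ht := hscc t (h b hb)
    rw [commutatorElement_def]
    calc g * (a * b * a⁻¹ * b⁻¹) * g⁻¹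
        = (g * a * g⁻¹) * (g * b * g⁻¹) * (g * a * g⁻¹)⁻¹ * (g * b * g⁻¹)⁻¹ := by group
      _ = (s * a) * (t * b) * (s * a)⁻¹ * (t * b)⁻¹ := by rw [ea, eb]
      _ = s * ((a * t) * b * a⁻¹) * (s⁻¹ * b⁻¹) * t⁻¹ := by group
      _ = s * ((t * a) * b * a⁻¹) * (s⁻¹ * b⁻¹) * t⁻¹ := by rw [← ht a]
      _ = (t * a * b * a⁻¹) * s * (s⁻¹ * b⁻¹) * t⁻¹ := by rw [hs]
      _ = t * (a * b * a⁻¹ * b⁻¹) * t⁻¹ := by group
      _ = a * b * a⁻¹ * b⁻¹ := by rw [ht, mul_inv_cancel_right]
  rw [hP.perfect] at hle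
  exact mul_inv_eq_iff_eq_mul.1 (mul_inv_eq_one.1 (hle hx))

end Cfsg.Agent.PThree.Sub
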